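import Cfsg.Prelude.Def_Perm
import Mathlib.GroupTheory.Sylow
import Mathlib.GroupTheory.GroupAction.MultipleTransitivity
import Mathlib.LinearAlgebra.Dual.Lemmas
import Mathlib.Algebra.CharP.Two
import Mathlib.Algebra.CharP.Lemmas
import Mathlib.GroupTheory.FiniteAbelian.Basic

/-!
Permutation modules in characteristic `p` for transitive actions of prime power degree:
the constants are the socle and the sum-zero functions the unique maximal submodule.
-/

set_option autoImplicit false

namespace Cfsg.Agent.PermGroups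

open Cfsg

variable {G : Type*} [Group G] {K : Type*} [Field K] {Ω : Type*} [MulAction G Ω]

theorem permRep_apply (g : G) (f : Ω → K) (x : Ω) : permRep K G Ω g f x = f (g⁻¹ • x) := rfl

theorem mem_permConstants {f : Ω → K} :
    f ∈ (permConstants K G Ω).toSubmodule ↔ ∃ c : K, ∀ x, f x = c := by
  show f ∈ Submodule.span K _ ↔ _
  rw [Submodule.mem_span_singleton]
  constructor
  · rintro ⟨c, rfl⟩; exact ⟨c, fun x => by simp⟩
  · rintro ⟨c, hc⟩; exact ⟨c, funext fun x => by simp [hc x]⟩

theorem mem_permSumZero [Fintype Ω] {f : Ω → K} :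
    f ∈ (permSumZero K G Ω).toSubmodule ↔ ∑ x, f x = 0 := Iff.rfl

theorem sum_permRep [Fintype Ω] (g : G) (f : Ω → K) : ∑ x, permRep K G Ω g f x = ∑ x, f x :=
  Fintype.sum_equiv (MulAction.toPerm g⁻¹) _ _ fun _ => rfl

theorem permRep_single [DecidableEq Ω] (g : G) (x : Ω) (c : K) :
    permRep K G Ω g (Pi.single x c) = Pi.single (g • x) c := by
  funext y
  rw [permRep_apply]
  by_cases h : y = g • x
  · rw [h, inv_smul_smul, Pi.single_eq_same, Pi.single_eq_same]
  · rw [Pi.single_eq_of_ne h, Pi.single_eq_of_ne]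
    exact fun e => h (by rw [← e, smul_inv_smul])

/-- A finite `p`-group fixes a non-zero vector in every non-zero invariant subspace. -/
theorem exists_fixed_of_isPGroup [Finite G] {p : ℕ} [Fact p.Prime] [CharP K p] {P : Subgroup G}
    (hP : IsPGroup p P) {V : Type*} [AddCommGroup V] [Module K V] (ρ : Representation K G V)
    (W : Submodule K V) (hinv : ∀ g : G, ∀ v ∈ W, ρ g v ∈ W) (hW : W ≠ ⊥) :
    ∃ w ∈ W, w ≠ 0 ∧ ∀ g ∈ P, ρ g w = w := by
  have hp : p.Prime := Fact.out
  obtain ⟨v, hv, hv0⟩ := W.ne_bot_iff.1 hW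
  let A : AddSubgroup V := AddSubgroup.closure (Set.range fun g : P => ρ g v)
  have hAW : A ≤ W.toAddSubgroup := (AddSubgroup.closure_le _).2 (by
    rintro _ ⟨g, rfl⟩; exact hinv _ v hv)
  have hAinv : ∀ g : P, ∀ a ∈ A, ρ g a ∈ A := by
    intro g a ha
    induction ha using AddSubgroup.closure_induction with
    | mem x hx =>
      obtain ⟨h, rfl⟩ := hx
      refine AddSubgroup.subset_closure ⟨g * h, ?_⟩
      simp
    | zero => rw [map_zero]; exact A.zero_mem
    | add x y _ _ hx hy => rw [map_add]; exact A.add_mem hx hy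
    | neg x _ hx => rw [map_neg]; exact A.neg_mem hx
  let act : MulAction P A :=
    { smul := fun g a => ⟨ρ g a.1, hAinv g a.1 a.2⟩
      one_smul := fun a => Subtype.ext (by show ρ ((1 : P) : G) a.1 = a.1; simp)
      mul_smul := fun g h a => Subtype.ext (by show ρ ((g * h : P) : G) a.1 = ρ g.1 (ρ h.1 a.1); simp) }
  have htor : ∀ a : A, (p : ℕ) • a = 0 := fun a => Subtype.ext (by
    rw [AddSubgroup.coe_nsmul, ← Nat.cast_smul_eq_nsmul K, CharP.cast_eq_zero, zero_smul]; rfl)
  have : AddGroup.FG A := (AddGroup.fg_iff_addSubgroup_fg A).2 ⟨(Set.finite_range _).toFinset, by rw [Set.Finite.coe_toFinset]⟩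
  have : Finite A := AddCommGroup.finite_of_fg_isAddTorsion A
    fun a => isOfFinAddOrder_iff_nsmul_eq_zero.2 ⟨p, hp.pos, htor a⟩
  have hpA : p ∣ Nat.card A := by
    have hne : (⟨v, AddSubgroup.subset_closure ⟨1, by simp⟩⟩ : A) ≠ 0 := fun e => hv0 (congrArg Subtype.val e)
    rw [← addOrderOf_eq_prime (htor _) hne]
    exact addOrderOf_dvd_natCard _
  obtain ⟨w, hw, hw0⟩ := hP.exists_fixed_point_of_prime_dvd_card_of_fixed_point A hpA
    (a := (0 : A)) (fun g => Subtype.ext (map_zero _))
  exact ⟨w.1, hAW w.2, fun e => hw0 (Subtype.ext e.symm), fun g hg => congrArg Subtype.val (hw ⟨g, hg⟩)⟩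

/-- In a transitive action of `p`-power degree a Sylow `p`-subgroup is transitive. -/
theorem sylow_isPretransitive [Finite G] [Finite Ω] {p f : ℕ} [Fact p.Prime] [MulAction.IsPretransitive G Ω]
    (hcard : Nat.card Ω = p ^ f) (P : Sylow p G) : MulAction.IsPretransitive (P : Subgroup G) Ω := by
  have hp : p.Prime := Fact.out
  refine ⟨fun x y => ?_⟩
  suffices h : MulAction.orbit (P : Subgroup G) x = Set.univ by
    exact MulAction.mem_orbit_iff.1 (h ▸ Set.mem_univ y)
  refine Set.eq_of_subset_of_ncard_le (Set.subset_univ _) ?_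
  rw [Set.ncard_univ, hcard, ← MulAction.index_stabilizer]
  set S := MulAction.stabilizer (P : Subgroup G) x
  set Gx := MulAction.stabilizer G x
  have hG : Gx.index = p ^ f := by rw [MulAction.index_stabilizer_of_transitive, hcard]
  have hSle : S.map (P : Subgroup G).subtype ≤ Gx := by
    rintro _ ⟨g, hg, rfl⟩; exact hg
  obtain ⟨b, hb⟩ := (IsPGroup.iff_card.1 (P.isPGroup'.to_subgroup S))
  have hdvd : p ^ b ∣ Nat.card Gx := by
    rw [← hb, Nat.card_congr (S.equivMapOfInjective _ (Subgroup.subtype_injective _)).toEquiv]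
    exact Subgroup.card_dvd_of_le hSle
  have hPcard := P.card_eq_multiplicity
  rw [← S.card_mul_index, hb] at hPcard
  have hGc : Nat.card Gx * p ^ f = Nat.card G := by rw [← hG, Subgroup.card_mul_index]
  have hle : b + f ≤ (Nat.card G).factorization p := by
    rw [← hp.pow_dvd_iff_le_factorization Nat.card_pos.ne', ← hGc, pow_add]
    exact mul_dvd_mul_right hdvd _
  have hpos : 0 < p ^ b := pow_pos hp.pos _
  have : p ^ b * p ^ f ≤ p ^ b * S.index := by
    rw [hPcard, ← pow_add]
    exact Nat.pow_le_pow_right hp.pos hle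
  exact Nat.le_of_mul_le_mul_left this hpos

/-- Every non-zero invariant subspace contains the constants. -/
theorem constants_le [Finite G] [Fintype Ω] {p f : ℕ} [Fact p.Prime] [CharP K p] [MulAction.IsPretransitive G Ω]
    (hcard : Fintype.card Ω = p ^ f) (W : Subrepresentation (permRep K G Ω)) (hW : W.toSubmodule ≠ ⊥) :
    (permConstants K G Ω).toSubmodule ≤ W.toSubmodule := by
  obtain ⟨P⟩ : Nonempty (Sylow p G) := inferInstance
  have := sylow_isPretransitive (Ω := Ω) (f := f) (by rw [Nat.card_eq_fintype_card, hcard]) P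
  obtain ⟨w, hw, hw0, hfix⟩ := exists_fixed_of_isPGroup P.isPGroup' (permRep K G Ω) W.toSubmodule
    (fun g v hv => W.apply_mem_toSubmodule g hv) hW
  obtain ⟨x, hx⟩ : ∃ x, w x ≠ 0 := by
    by_contra! h
    exact hw0 (funext h)
  have hconst : ∀ y, w y = w x := fun y => by
    obtain ⟨g, hg⟩ := MulAction.exists_smul_eq (P : Subgroup G) y x
    have := congrFun (hfix _ g.2) x
    rw [permRep_apply] at this
    rw [← this, ← hg]
    show _ = w ((g : G)⁻¹ • (g : G) • y)
    rw [inv_smul_smul]
  intro v hv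
  obtain ⟨c, hc⟩ := mem_permConstants.1 hv
  have : v = (c * (w x)⁻¹) • w := funext fun y => by
    rw [Pi.smul_apply, smul_eq_mul, hconst y, hc y, inv_mul_cancel_right₀ hx]
  exact this ▸ W.toSubmodule.smul_mem _ hw

/-- The orthogonal of an invariant subspace, as an invariant subspace. -/
noncomputable def orth [Fintype Ω] (U : Subrepresentation (permRep K G Ω)) : Subrepresentation (permRep K G Ω) where
  toSubmodule :=
    { carrier := {f | ∀ u ∈ U.toSubmodule, ∑ x, u x * f x = 0}
      add_mem' := fun {a b} ha hb u hu => by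
        simp [mul_add, Finset.sum_add_distrib, ha u hu, hb u hu]
      zero_mem' := fun u _ => by simp
      smul_mem' := fun c f hf u hu => by
        simp only [Pi.smul_apply, smul_eq_mul, mul_left_comm, ← Finset.mul_sum, hf u hu, mul_zero] }
  apply_mem_toSubmodule g f hf u hu := by
    have h := hf _ (U.apply_mem_toSubmodule g⁻¹ hu)
    rw [← h]
    refine Fintype.sum_equiv (MulAction.toPerm g⁻¹) _ _ fun x => ?_
    show u x * f (g⁻¹ • x) = u (g⁻¹⁻¹ • g⁻¹ • x) * f (g⁻¹ • x)
    rw [inv_inv, smul_inv_smul]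

theorem mem_orth [Fintype Ω] {U : Subrepresentation (permRep K G Ω)} {f : Ω → K} :
    f ∈ (orth U).toSubmodule ↔ ∀ u ∈ U.toSubmodule, ∑ x, u x * f x = 0 := Iff.rfl

theorem orth_ne_bot [Fintype Ω] {U : Subrepresentation (permRep K G Ω)} (h : U.toSubmodule ≠ ⊤) :
    (orth U).toSubmodule ≠ ⊥ := by
  classical
  obtain ⟨φ, hφ, hle⟩ := Submodule.exists_le_ker_of_lt_top U.toSubmodule (lt_top_iff_ne_top.2 h)
  have key : ∀ u : Ω → K, φ u = ∑ x, u x * φ (Pi.single x 1) := fun u => by
    conv_lhs => rw [pi_eq_sum_univ' u]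
    simp [map_sum]
  intro hb
  apply hφ
  have hmem : (fun x => φ (Pi.single x 1)) ∈ (orth U).toSubmodule := fun u hu => by
    rw [← key]; exact hle hu
  rw [hb, Submodule.mem_bot] at hmem
  refine LinearMap.ext fun u => ?_
  rw [key]
  simp [fun x => congrFun hmem x]

/-- Every proper invariant subspace lies in the sum-zero functions. -/
theorem le_sumZero [Finite G] [Fintype Ω] {p f : ℕ} [Fact p.Prime] [CharP K p] [MulAction.IsPretransitive G Ω]
    (hcard : Fintype.card Ω = p ^ f) (U : Subrepresentation (permRep K G Ω)) (hU : U.toSubmodule ≠ ⊤) :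
    U.toSubmodule ≤ (permSumZero K G Ω).toSubmodule := fun u hu => by
  have h1 : (fun _ => (1 : K)) ∈ (orth U).toSubmodule :=
    constants_le hcard (orth U) (orth_ne_bot hU) (mem_permConstants.2 ⟨1, fun _ => rfl⟩)
  have := h1 u hu
  simpa [mem_permSumZero] using this

end Cfsg.Agent.PermGroups
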