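import Mathlib.Algebra.Polynomial.Roots
import Mathlib.Algebra.Polynomial.Eval.SMul
import Mathlib.LinearAlgebra.Lagrange
import Mathlib.Algebra.Field.ZMod
import Mathlib.Algebra.Polynomial.Eval.Degree
import Mathlib.Data.ZMod.Basic
import Mathlib.Algebra.CharP.Lemmas
import Mathlib.LinearAlgebra.FiniteDimensional.Lemmas
import Mathlib.LinearAlgebra.Dimension.RankNullity
import Mathlib.RingTheory.Polynomial.Basic

/-!
Functions on `ZMod p` in characteristic `p`: the translation difference operator and the
polynomial filtration.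
-/

set_option autoImplicit false

namespace Cfsg.Agent.PermGroups

open Polynomial

variable {p : ℕ} [Fact p.Prime] {K : Type*} [Field K] [CharP K p]

/-- evaluation of a polynomial on the prime field -/
noncomputable def evalFun : K[X] →ₗ[K] (ZMod p → K) :=
  LinearMap.pi fun j => Polynomial.leval (ZMod.cast j : K)

@[simp] theorem evalFun_apply (P : K[X]) (j : ZMod p) : evalFun P j = P.eval (ZMod.cast j : K) := rfl

theorem cast_injective : Function.Injective (fun j : ZMod p => (ZMod.cast j : K)) :=
  (ZMod.castHom dvd_rfl K).injective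

theorem evalFun_eq_zero {P : K[X]} (hd : P.degree < (p : ℕ)) (h : evalFun (p := p) P = 0) : P = 0 := by
  classical
  refine Polynomial.eq_zero_of_degree_lt_of_eval_finset_eq_zero
    (Finset.univ.map ⟨fun j : ZMod p => (ZMod.cast j : K), cast_injective⟩) ?_ ?_
  · rw [Finset.card_map, Finset.card_univ, ZMod.card]; exact hd
  · intro x hx
    obtain ⟨j, -, rfl⟩ := Finset.mem_map.1 hx
    exact congrFun h j

/-- translation difference -/
noncomputable def dl : (ZMod p → K) →ₗ[K] (ZMod p → K) :=
  LinearMap.funLeft K K (fun j => j - 1) - LinearMap.id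

theorem dl_apply (f : ZMod p → K) (j : ZMod p) : dl f j = f (j - 1) - f j := rfl

/-- polynomial functions of degree less than `r` -/
noncomputable def polySpace (p : ℕ) [Fact p.Prime] (K : Type*) [Field K] [CharP K p] (r : ℕ) :
    Submodule K (ZMod p → K) := (Polynomial.degreeLT K r).map (evalFun (p := p))

theorem mem_polySpace {r : ℕ} {f : ZMod p → K} :
    f ∈ polySpace p K r ↔ ∃ P : K[X], P.degree < r ∧ ∀ j : ZMod p, f j = P.eval (ZMod.cast j : K) := by
  constructor
  · rintro ⟨P, hP, rfl⟩; exact ⟨P, Polynomial.mem_degreeLT.1 hP, fun j => rfl⟩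
  · rintro ⟨P, hP, h⟩; exact ⟨P, Polynomial.mem_degreeLT.2 hP, (funext h).symm⟩

theorem finrank_polySpace {r : ℕ} (hr : r ≤ p) : Module.finrank K (polySpace p K r) = r := by
  have hinj : Function.Injective ((evalFun (p := p)).domRestrict (Polynomial.degreeLT K r)) := by
    rw [injective_iff_map_eq_zero]
    rintro ⟨P, hP⟩ h
    exact Subtype.ext (evalFun_eq_zero (lt_of_lt_of_le (Polynomial.mem_degreeLT.1 hP) (by exact_mod_cast hr)) h)
  have h := LinearMap.finrank_range_of_inj hinj
  rw [LinearMap.range_domRestrict, LinearEquiv.finrank_eq (Polynomial.degreeLTEquiv K r), Module.finrank_fin_fun] at h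
  exact h

theorem polySpace_mono {r s : ℕ} (h : r ≤ s) : polySpace p K r ≤ polySpace p K s :=
  Submodule.map_mono (Polynomial.degreeLT_mono h)

theorem polySpace_top : polySpace p K p = ⊤ := by
  apply Submodule.eq_top_of_finrank_eq
  rw [finrank_polySpace le_rfl, Module.finrank_pi, ZMod.card]

theorem dl_polySpace {r : ℕ} : (polySpace p K (r + 1)).map dl ≤ polySpace p K r := by
  rintro _ ⟨_, ⟨P, hP, rfl⟩, rfl⟩
  rw [mem_polySpace]
  refine ⟨P.comp (X - C 1) - P, ?_, fun j => ?_⟩
  · rcases eq_or_ne P 0 with rfl | hP0
    · simp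
    have hnd : P.natDegree ≤ r := by
      have := Polynomial.mem_degreeLT.1 hP
      rw [Polynomial.degree_eq_natDegree hP0] at this
      exact Nat.lt_succ_iff.1 (by exact_mod_cast this)
    rw [Polynomial.degree_lt_iff_coeff_zero]
    intro m hm
    have hm' : P.natDegree ≤ m := hnd.trans hm
    rcases hm'.lt_or_eq with hlt | heq
    · rw [coeff_sub, coeff_eq_zero_of_natDegree_lt hlt, coeff_eq_zero_of_natDegree_lt, sub_zero]
      rw [natDegree_comp, natDegree_X_sub_C, mul_one]
      exact hlt
    · subst heq
      rw [coeff_sub]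
      have h1 := Polynomial.leadingCoeff_comp (p := P) (q := X - C (1 : K)) (by rw [natDegree_X_sub_C]; exact one_ne_zero)
      rw [leadingCoeff_X_sub_C, one_pow, mul_one] at h1
      unfold leadingCoeff at h1
      rw [natDegree_comp, natDegree_X_sub_C, mul_one] at h1
      rw [h1, sub_self]
  · have h1 : (ZMod.cast (j - 1) : K) = (ZMod.cast j : K) - 1 := by
      have := map_sub (ZMod.castHom (dvd_refl p) K) j 1
      rwa [map_one] at this
    rw [dl_apply, evalFun_apply, evalFun_apply, h1]
    simp

theorem dl_pow_polySpace : ∀ {r : ℕ}, polySpace p K r ≤ LinearMap.ker ((dl (p := p) (K := K)) ^ r) := by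
  intro r
  induction r with
  | zero =>
    rintro f ⟨P, hP, rfl⟩
    have : P = 0 := by simpa [Polynomial.mem_degreeLT] using hP
    simp [this]
  | succ r ih =>
    intro f hf
    rw [LinearMap.mem_ker, pow_succ, Module.End.mul_apply]
    exact ih (dl_polySpace (Submodule.mem_map_of_mem hf))

theorem dl_pow_p : (dl (p := p) (K := K)) ^ p = 0 := by
  refine LinearMap.ext fun f => ?_
  exact dl_pow_polySpace (show f ∈ polySpace p K p by rw [polySpace_top]; trivial)

theorem finrank_ker_dl : Module.finrank K (LinearMap.ker (dl (p := p) (K := K))) ≤ 1 := by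
  refine finrank_le_one (⟨fun _ => 1, by funext j; simp [dl_apply]⟩ : LinearMap.ker (dl (p := p) (K := K))) fun f => ?_
  refine ⟨f.1 0, Subtype.ext (funext fun j => ?_)⟩
  have h : ∀ i : ℕ, f.1 (i : ZMod p) = f.1 0 := by
    intro i
    induction i with
    | zero => simp
    | succ i ih =>
      have := congrFun (LinearMap.mem_ker.1 f.2) ((i + 1 : ℕ) : ZMod p)
      rw [dl_apply, Pi.zero_apply, sub_eq_zero] at this
      rw [← this]
      simpa using ih
  have := h j.val
  rw [ZMod.natCast_zmod_val] at this
  simp [this]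

theorem finrank_ker_dl_pow : ∀ r : ℕ, Module.finrank K (LinearMap.ker ((dl (p := p) (K := K)) ^ r)) ≤ r := by
  intro r
  induction r with
  | zero =>
    rw [pow_zero, show LinearMap.ker (1 : (ZMod p → K) →ₗ[K] (ZMod p → K)) = ⊥ from LinearMap.ker_id]
    simp
  | succ r ih =>
    set A := LinearMap.ker ((dl (p := p) (K := K)) ^ (r + 1))
    set g := (dl (p := p) (K := K)).domRestrict A
    have h := g.finrank_range_add_finrank_ker
    have h1 : Module.finrank K (LinearMap.range g) ≤ r := by
      refine le_trans (Submodule.finrank_mono ?_) ih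
      rintro _ ⟨x, rfl⟩
      have := LinearMap.mem_ker.1 x.2
      rw [pow_succ, Module.End.mul_apply] at this
      exact this
    have h2 : Module.finrank K (LinearMap.ker g) ≤ 1 := by
      refine le_trans ?_ (finrank_ker_dl (p := p) (K := K))
      exact LinearMap.finrank_le_finrank_of_injective
        (f := (A.subtype.comp (LinearMap.ker g).subtype).codRestrict (LinearMap.ker (dl (p := p) (K := K))) fun c => LinearMap.mem_ker.1 c.2)
        (fun a b hab => Subtype.ext (Subtype.ext (congrArg (fun x : LinearMap.ker (dl (p := p) (K := K)) => (x : ZMod p → K)) hab)))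
    omega

theorem ker_dl_pow {r : ℕ} (hr : r ≤ p) : LinearMap.ker ((dl (p := p) (K := K)) ^ r) = polySpace p K r :=
  (Submodule.eq_of_le_of_finrank_le dl_pow_polySpace (by rw [finrank_polySpace hr]; exact finrank_ker_dl_pow r)).symm

theorem le_ker_pow_finrank : ∀ (r : ℕ) (W : Submodule K (ZMod p → K)), Module.finrank K W = r →
    W.map dl ≤ W → W ≤ LinearMap.ker ((dl (p := p) (K := K)) ^ r) := by
  intro r
  induction r using Nat.strong_induction_on with
  | _ r ih =>
    intro W hr hW
    rcases eq_or_ne W ⊥ with rfl | hne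
    · exact bot_le
    have hlt : Module.finrank K (W.map (dl (p := p) (K := K))) < r := by
      rw [← hr]
      refine Submodule.finrank_lt_finrank_of_lt (lt_of_le_of_ne hW fun heq => hne ?_)
      have key : ∀ i : ℕ, W.map ((dl (p := p) (K := K)) ^ i) = W := by
        intro i
        induction i with
        | zero => rw [pow_zero]; exact Submodule.map_id W
        | succ i ih => rw [pow_succ, Module.End.mul_eq_comp, Submodule.map_comp, heq, ih]
      have := key p
      rw [dl_pow_p, Submodule.map_zero] at this
      exact this.symm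
    intro w hw
    have h1 := ih _ hlt (W.map dl) rfl (Submodule.map_mono hW) (Submodule.mem_map_of_mem hw)
    rw [LinearMap.mem_ker] at h1 ⊢
    obtain ⟨d, hd⟩ := Nat.exists_eq_add_of_lt hlt
    rw [hd, show Module.finrank K (W.map (dl (p := p) (K := K))) + d + 1 =
      d + (Module.finrank K (W.map (dl (p := p) (K := K))) + 1) by omega, pow_add, Module.End.mul_apply, pow_succ,
      Module.End.mul_apply, h1, map_zero]

/-- Translation invariant subspaces are the polynomial spaces. -/
theorem eq_polySpace (W : Submodule K (ZMod p → K)) (hW : ∀ f ∈ W, (fun j => f (j - 1)) ∈ W) :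
    Module.finrank K W ≤ p ∧ W = polySpace p K (Module.finrank K W) := by
  have hle : Module.finrank K W ≤ p := by
    refine (Submodule.finrank_le W).trans ?_
    rw [Module.finrank_pi, ZMod.card]
  refine ⟨hle, ?_⟩
  have hdl : W.map dl ≤ W := by
    rintro _ ⟨f, hf, rfl⟩
    exact W.sub_mem (hW f hf) hf
  apply Submodule.eq_of_le_of_finrank_le
  · rw [← ker_dl_pow hle]; exact le_ker_pow_finrank _ W rfl hdl
  · rw [finrank_polySpace hle]

end Cfsg.Agent.PermGroups
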