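import Cfsg.Agent.Fg24.SchurRing.Basic

/-!
# Primitive groups with a regular cyclic subgroup of prime power order, not prime

Such a group is doubly transitive.
-/

set_option autoImplicit false

namespace Cfsg.Agent.PrimePowerCycle

open Cfsg.Agent.Fg24.SchurRing MonoidAlgebra

variable {G Ω : Type*} [Group G] [MulAction G Ω] {C : Subgroup G} {a : Ω}

theorem inverse_fixed (hC : MulAction.IsPretransitive C Ω ∧ ∀ b : Ω, MulAction.stabilizer C b = ⊥)
    [IsMulCommutative C] [Finite C] {T : Set C} (hT : FixedSet hC a T) :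
    FixedSet hC a {t | t⁻¹ ∈ T} := by
  have hinv : FixedSet hC a ((fun t => t ^ (Nat.card C - 1)) '' T) := hT.pow_coprime hC T _ (by
    have hpos := Nat.card_pos (α := C)
    exact Nat.coprime_self_sub_left (by omega) |>.2 (Nat.coprime_one_left _))
  have e1 : ∀ t : C, t ^ (Nat.card C - 1) = t⁻¹ := fun t => eq_inv_of_mul_eq_one_left (by
    rw [← pow_succ, Nat.sub_add_cancel (Nat.card_pos (α := C)), pow_card_eq_one'])
  simp only [e1] at hinv
  have : ((fun t : C => t⁻¹) '' T) = {t | t⁻¹ ∈ T} := by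
    ext t; simp
  rwa [this] at hinv

open Classical in
theorem count_fixed (hC : MulAction.IsPretransitive C Ω ∧ ∀ b : Ω, MulAction.stabilizer C b = ⊥)
    [IsMulCommutative C] [Fintype C] {T : Set C} (hT : FixedSet hC a T) {h : G} (hh : h • a = a)
    (k : C) :
    (Finset.univ.filter fun t : C => t ∈ T ∧ (act hC a h k)⁻¹ * t ∈ T).card =
      (Finset.univ.filter fun t : C => t ∈ T ∧ k⁻¹ * t ∈ T).card := by
  let s : Finset C := Finset.univ.filter fun t => t ∈ T
  let x : MonoidAlgebra ℕ C := ∑ t ∈ s, single t 1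
  let y : MonoidAlgebra ℕ C := ∑ t ∈ s, single t⁻¹ 1
  have hx : ∀ m, x.coeff m = if m ∈ T then 1 else 0 := fun m => by
    simp [x, s, coeff_sum, Finsupp.single_apply]
  have hy : ∀ m, y.coeff m = if m⁻¹ ∈ T then 1 else 0 := fun m => by
    simp [y, s, coeff_sum, Finsupp.single_apply, inv_eq_iff_eq_inv]
  have hxy : Fixed hC a (x * y) := by
    refine Fixed.mul hC (fun h hh k => by simp only [hx, hT.mem_iff hC hh]) fun h hh k => ?_
    simp only [hy]
    exact if_congr ((inverse_fixed hC hT).mem_iff hC hh k) rfl rfl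
  have hval : ∀ g, (x * y).coeff g = (Finset.univ.filter fun t : C => t ∈ T ∧ g⁻¹ * t ∈ T).card := fun g => by
    rw [coeff_mul_finite]
    simp only [hx, hy, mul_inv_rev, inv_inv, ite_zero_mul_ite_zero, one_mul]
    rw [Finset.sum_boole, Nat.cast_id]
  rw [← hval, ← hval, hxy h hh k]

/-- The stabilizer of `a` is transitive on the other points. -/
theorem transitive_on_others (hC : MulAction.IsPretransitive C Ω ∧ ∀ b : Ω, MulAction.stabilizer C b = ⊥)
    [IsMulCommutative C] [Finite C] [Nontrivial Ω] (hprim : MulAction.IsPreprimitive G Ω)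
    {p : ℕ} [hp : Fact p.Prime] (hker : Nat.card {x : C // x ^ p = 1} = p)
    (hexp : ∃ c : C, c ^ p ≠ 1) (x y : C) (hx : x ≠ 1) (hy : y ≠ 1) :
    ∃ h : G, h • a = a ∧ act hC a h x = y := by
  classical
  have := Fintype.ofFinite C
  have hC' : ∀ u v : C, u * v = v * u := fun u v => IsMulCommutative.is_comm.comm u v
  let _ : CommGroup C := { (inferInstance : Group C) with mul_comm := hC' }
  let orb : C → Set C := fun k => {z | ∃ h : G, h • a = a ∧ act hC a h k = z}
  have hfixed : ∀ k, FixedSet hC a (orb k) := fixedSet_orbit hC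
  have hself : ∀ k, k ∈ orb k := fun k =>
    ⟨1, one_smul _ _, smul_left_injective' hC (a := a) (by
      show act hC a 1 k • a = k • a
      rw [act_spec, one_smul])⟩
  have hone : ∀ k, k ≠ 1 → (1 : C) ∉ orb k := by
    rintro k hk ⟨h, hh, e⟩
    exact hk (act_injective hC h (e.trans (act_one hC hh).symm))
  have hsymm : ∀ k l, l ∈ orb k → orb l = orb k := by
    rintro k l ⟨h, hh, rfl⟩
    ext z
    constructor
    · rintro ⟨g, hg, rfl⟩
      exact (hfixed k) g hg _ ⟨h, hh, rfl⟩
    · intro hz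
      obtain ⟨g, hg, rfl⟩ := hz
      have e : act hC a h⁻¹ (act hC a h k) = k := smul_left_injective' hC (a := a)
        (show act hC a h⁻¹ (act hC a h k) • a = k • a by rw [act_spec, act_spec, inv_smul_smul])
      have hk : k ∈ orb (act hC a h k) := ⟨h⁻¹, inv_smul_eq_iff.2 hh.symm, e⟩
      exact (hfixed _) g hg k hk
  set Z : Finset C := Finset.univ.filter fun z : C => z ^ p = 1 with hZ
  have hmZ : ∀ z, z ∈ Z ↔ z ^ p = 1 := fun z => by simp [hZ]
  have hZc : Z.card = p := by rw [hZ, ← Fintype.card_subtype, ← Nat.card_eq_fintype_card, hker]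
  obtain ⟨z₀, hz₀, hz1⟩ : ∃ z ∈ Z, z ≠ 1 := Finset.exists_mem_ne (by rw [hZc]; exact hp.out.one_lt) 1
  -- outside `Z` every basic set is a union of cosets
  have hcoset : ∀ k, k ≠ 1 → ∀ t ∈ orb k, t ^ p ≠ 1 → ∀ z : C, z ^ p = 1 → t * z ∈ orb k := by
    intro k hk t ht htp z hz
    set T := orb k
    have hY := (hfixed k).pow_prime hC (p := p)
    have hsub : ∀ u ∈ {y : C | ¬ p ∣ Nat.card {t : C // t ∈ T ∧ t ^ p = y}}, ∃ v, v ^ p = u := by
      intro u hu
      by_contra hno
      have : IsEmpty {t : C // t ∈ T ∧ t ^ p = u} := ⟨fun v => hno ⟨v.1, v.2.2⟩⟩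
      exact hu (by rw [Nat.card_of_isEmpty]; exact dvd_zero _)
    have hbot : Subgroup.closure {y : C | ¬ p ∣ Nat.card {t : C // t ∈ T ∧ t ^ p = y}} = ⊥ := by
      refine (closure_trivial hC hprim hY).resolve_right fun htop => ?_
      have hle : (⊤ : Subgroup C) ≤ (powMonoidHom p : C →* C).range := by
        rw [← htop, Subgroup.closure_le]
        intro u hu
        obtain ⟨v, hv⟩ := hsub u hu
        exact ⟨v, hv⟩
      have hsurj : Function.Surjective (powMonoidHom p : C →* C) :=
        fun u => hle (Subgroup.mem_top u)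
      have := (Finite.injective_iff_surjective.2 hsurj) (show z₀ ^ p = (1 : C) ^ p by
        rw [one_pow, (hmZ z₀).1 hz₀])
      exact hz1 this
    have hd : p ∣ Nat.card {u : C // u ∈ T ∧ u ^ p = t ^ p} := by
      by_contra hnd
      exact htp ((Subgroup.eq_bot_iff_forall _).1 hbot _ (Subgroup.subset_closure hnd))
    have hne : Nonempty {u : C // u ∈ T ∧ u ^ p = t ^ p} := ⟨⟨t, ht, rfl⟩⟩
    have hle := Nat.le_of_dvd Nat.card_pos hd
    have hinj : Function.Injective fun u : {u : C // u ∈ T ∧ u ^ p = t ^ p} =>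
        (⟨t⁻¹ * u.1, by rw [mul_pow, inv_pow, u.2.2, inv_mul_cancel]⟩ : {x : C // x ^ p = 1}) :=
      fun u v e => Subtype.ext (mul_left_cancel (congrArg Subtype.val e : t⁻¹ * u.1 = t⁻¹ * v.1))
    have hb : Function.Bijective _ := (Nat.bijective_iff_injective_and_card _).2
      ⟨hinj, le_antisymm (Nat.card_le_card_of_injective _ hinj) (hker.le.trans hle)⟩
    obtain ⟨⟨u, hu, hu2⟩, hue⟩ := hb.2 ⟨z, hz⟩
    have hue' : t⁻¹ * u = z := congrArg Subtype.val hue
    rwa [← hue', mul_inv_cancel_left]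
  -- every basic set meets `Z`
  have hmeet : ∀ k, k ≠ 1 → ∃ z ∈ orb k, z ^ p = 1 := by
    intro k hk
    by_contra! hno
    let L : Subgroup C :=
      { carrier := {g | ∀ t ∈ orb k, g * t ∈ orb k}
        one_mem' := fun t ht => by rwa [one_mul]
        mul_mem' := fun {u v} hu hv t ht => by rw [mul_assoc]; exact hu _ (hv t ht)
        inv_mem' := by
          intro g hg t ht
          have hinj : Function.Injective fun u : orb k => (⟨g * u, hg u u.2⟩ : orb k) :=
            fun u v e => Subtype.ext (mul_left_cancel (congrArg Subtype.val e : g * (u : C) = g * v))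
          obtain ⟨⟨u, hu⟩, hue⟩ := Finite.injective_iff_surjective.1 hinj ⟨t, ht⟩
          have hue' : g * u = t := congrArg Subtype.val hue
          rw [← hue', inv_mul_cancel_left]
          exact hu }
    have hzL : z₀ ∈ L := fun t ht => by
      rw [hC']; exact hcoset k hk t ht (hno t ht) z₀ ((hmZ z₀).1 hz₀)
    rcases fixed_subgroup_trivial hC hprim L ((hfixed k).translations hC) with h | h
    · exact hz1 ((Subgroup.eq_bot_iff_forall _).1 h _ hzL)
    · have hm : k⁻¹ ∈ L := h ▸ Subgroup.mem_top _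
      have := hm k (hself k)
      rw [inv_mul_cancel] at this
      exact hone k hk this
  -- no basic set lies in `Z`
  have hout : ∀ k, k ≠ 1 → ∃ t ∈ orb k, t ^ p ≠ 1 := by
    intro k hk
    by_contra! hno
    rcases closure_trivial hC hprim (hfixed k) with h | h
    · exact hk ((Subgroup.eq_bot_iff_forall _).1 h _ (Subgroup.subset_closure (hself k)))
    · obtain ⟨c, hc⟩ := hexp
      have hle : Subgroup.closure (orb k) ≤ (powMonoidHom p : C →* C).ker :=
        (Subgroup.closure_le _).2 fun t ht => MonoidHom.mem_ker.2 (hno t ht)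
      rw [h] at hle
      exact hc (MonoidHom.mem_ker.1 (hle (Subgroup.mem_top c)))
  -- a basic set contains all of `Z \ {1}`
  have hall : ∀ k, k ≠ 1 → ∀ z : C, z ^ p = 1 → z ≠ 1 → z ∈ orb k := by
    intro k hk
    set T := orb k with hT
    set A : Finset C := Finset.univ.filter fun t => t ∈ T ∧ t ^ p = 1 with hA
    have hmA : ∀ t, t ∈ A ↔ t ∈ T ∧ t ^ p = 1 := fun t => by simp [hA]
    let c : C → ℕ := fun z => (A.filter fun t => z⁻¹ * t ∈ T).card
    have hAp : A.card < p := by
      rw [← hZc]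
      refine Finset.card_lt_card ⟨fun t ht => (hmZ t).2 ((hmA t).1 ht).2, fun hsub => ?_⟩
      exact hone k hk ((hmA 1).1 (hsub ((hmZ 1).2 (one_pow p)))).1
    have hunion : ∀ U : Finset C, (∀ t ∈ U, ∀ z ∈ Z, t * z ∈ U) → p ∣ U.card := by
      intro U hU
      rw [Finset.card_eq_sum_card_image (fun t : C => t ^ p)]
      refine Finset.dvd_sum fun w hw => ?_
      obtain ⟨t, ht, rfl⟩ := Finset.mem_image.1 hw
      have : (U.filter fun u => u ^ p = t ^ p) = Z.image fun z => t * z := by
        ext u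
        simp only [Finset.mem_filter, Finset.mem_image]
        constructor
        · rintro ⟨-, hu⟩
          exact ⟨t⁻¹ * u, (hmZ _).2 (by rw [mul_pow, inv_pow, hu, inv_mul_cancel]), mul_inv_cancel_left t u⟩
        · rintro ⟨z, hz, rfl⟩
          exact ⟨hU t ht z hz, by rw [mul_pow, (hmZ z).1 hz, mul_one]⟩
      rw [this, Finset.card_image_of_injective _ (mul_right_injective t), hZc]
    have hS : ∀ t, t ∈ T → t ^ p ≠ 1 → ∀ z, z ∈ Z → t * z ∈ T ∧ (t * z) ^ p ≠ 1 := fun t ht htp z hz =>
      ⟨hcoset k hk t ht htp z ((hmZ z).1 hz), by rwa [mul_pow, (hmZ z).1 hz, mul_one]⟩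
    set N : C → ℕ := fun g => (Finset.univ.filter fun t : C => t ∈ T ∧ g⁻¹ * t ∈ T).card with hN
    -- the count at an element of `Z`
    have hNz : ∀ z, z ^ p = 1 → (N z : ZMod p) = c z := by
      intro z hz
      have hd : p ∣ ((Finset.univ.filter fun t : C => t ∈ T ∧ z⁻¹ * t ∈ T).filter fun t => ¬ t ^ p = 1).card := by
        refine hunion _ fun t ht w hw => ?_
        simp only [Finset.mem_filter, Finset.mem_univ, true_and] at ht ⊢
        obtain ⟨h1, h2⟩ := hS t ht.1.1 ht.2 w hw
        refine ⟨⟨h1, ?_⟩, h2⟩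
        rw [← mul_assoc]
        exact (hS _ ht.1.2 (by rw [mul_pow, inv_pow, hz, inv_one, one_mul]; exact ht.2) w hw).1
      have hc : ((Finset.univ.filter fun t : C => t ∈ T ∧ z⁻¹ * t ∈ T).filter fun t => t ^ p = 1).card = c z := by
        simp only [c, hA, Finset.filter_filter]
        congr 1
        ext t
        simp only [Finset.mem_filter, Finset.mem_univ, true_and]
        tauto
      rw [hN]
      simp only
      rw [← Finset.card_filter_add_card_filter_not (fun t : C => t ^ p = 1), hc, Nat.cast_add,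
        (CharP.cast_eq_zero_iff (ZMod p) p _).2 hd, add_zero]
    -- the count at an element outside `Z`
    have hNy : ∀ y, y ^ p ≠ 1 → (N y : ZMod p) =
        (if y⁻¹ ∈ T then (A.card : ZMod p) else 0) + (if y ∈ T then (A.card : ZMod p) else 0) := by
      intro y hy
      set F := Finset.univ.filter fun t : C => t ∈ T ∧ y⁻¹ * t ∈ T with hF
      have hyi : (y⁻¹) ^ p ≠ 1 := by rwa [inv_pow, inv_ne_one]
      have h1 : (F.filter fun t => t ^ p = 1).card = if y⁻¹ ∈ T then A.card else 0 := by
        split_ifs with h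
        · congr 1
          ext t
          simp only [hF, hA, Finset.mem_filter, Finset.mem_univ, true_and]
          exact ⟨fun hh => ⟨hh.1.1, hh.2⟩, fun hh => ⟨⟨hh.1, (hS _ h hyi t ((hmZ t).2 hh.2)).1⟩, hh.2⟩⟩
        · refine Finset.card_eq_zero.2 (Finset.eq_empty_of_forall_notMem fun t ht => ?_)
          simp only [hF, Finset.mem_filter, Finset.mem_univ, true_and] at ht
          refine h ?_
          have h3 := (hS _ ht.1.2 (by rwa [mul_pow, ht.2, mul_one]) t⁻¹ ((hmZ _).2 (by rw [inv_pow, ht.2, inv_one]))).1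
          rwa [mul_inv_cancel_right] at h3
      have h2 : ((F.filter fun t => ¬ t ^ p = 1).filter fun t => (y⁻¹ * t) ^ p = 1).card =
          if y ∈ T then A.card else 0 := by
        split_ifs with h
        · rw [← Finset.card_image_of_injective A (mul_right_injective y)]
          congr 1
          ext t
          simp only [hF, Finset.mem_filter, Finset.mem_univ, true_and, Finset.mem_image, hmA]
          constructor
          · rintro ⟨⟨⟨-, h4⟩, -⟩, h5⟩
            exact ⟨y⁻¹ * t, ⟨h4, h5⟩, mul_inv_cancel_left y t⟩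
          · rintro ⟨z, ⟨hz, hz'⟩, rfl⟩
            obtain ⟨h4, h5⟩ := hS y h hy z ((hmZ z).2 hz')
            rw [inv_mul_cancel_left]
            exact ⟨⟨⟨h4, hz⟩, h5⟩, hz'⟩
        · refine Finset.card_eq_zero.2 (Finset.eq_empty_of_forall_notMem fun t ht => ?_)
          simp only [hF, Finset.mem_filter, Finset.mem_univ, true_and] at ht
          refine h ?_
          have h3 := (hS _ ht.1.1.1 ht.1.2 (y⁻¹ * t)⁻¹ ((hmZ _).2 (by rw [inv_pow, ht.2, inv_one]))).1
          rwa [mul_inv_rev, inv_inv, ← mul_assoc, mul_inv_cancel, one_mul] at h3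
      have h3 : p ∣ ((F.filter fun t => ¬ t ^ p = 1).filter fun t => ¬ (y⁻¹ * t) ^ p = 1).card := by
        refine hunion _ fun t ht w hw => ?_
        simp only [hF, Finset.mem_filter, Finset.mem_univ, true_and] at ht ⊢
        obtain ⟨h4, h5⟩ := hS t ht.1.1.1 ht.1.2 w hw
        obtain ⟨h6, h7⟩ := hS _ ht.1.1.2 ht.2 w hw
        rw [mul_assoc] at h6 h7
        exact ⟨⟨⟨h4, h6⟩, h5⟩, h7⟩
      rw [show N y = F.card from rfl, ← Finset.card_filter_add_card_filter_not (fun t : C => t ^ p = 1) (s := F),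
        ← Finset.card_filter_add_card_filter_not (fun t : C => (y⁻¹ * t) ^ p = 1)
          (s := F.filter fun t => ¬ t ^ p = 1), h1, h2]
      push_cast
      rw [(CharP.cast_eq_zero_iff (ZMod p) p _).2 h3, add_zero]
    -- `N` is constant on basic sets
    have hconst : ∀ u, ∀ v ∈ orb u, N v = N u := by
      rintro u v ⟨h, hh, rfl⟩
      exact count_fixed hC (hfixed k) hh u
    obtain ⟨e, he, hep⟩ := hmeet k hk
    have heA : e ∈ A := (hmA e).2 ⟨he, hep⟩
    have hce : c e < A.card := by
      refine Finset.card_lt_card ⟨Finset.filter_subset _ _, fun hsub => ?_⟩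
      have := (Finset.mem_filter.1 (hsub heA)).2
      rw [inv_mul_cancel] at this
      exact hone k hk this
    have hinvT : ∀ y ∈ T, y ^ p ≠ 1 → y⁻¹ ∈ T := by
      intro y hy hyp
      by_contra hyi
      have h1 := hNy y hyp
      rw [if_neg hyi, if_pos hy, zero_add, hconst e y (by rw [hsymm k e he]; exact hy), hNz e hep] at h1
      rw [ZMod.natCast_eq_natCast_iff', Nat.mod_eq_of_lt (hce.trans hAp), Nat.mod_eq_of_lt hAp] at h1
      omega
    have hzero : ∀ z, z ^ p = 1 → z ≠ 1 → z ∉ T → c z = 0 := by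
      intro z hz hz' hzT
      obtain ⟨y, hy, hyp⟩ := hout z hz'
      have hyT : y ∉ T := fun h => hzT (by
        rw [hT, ← hsymm k y h, hsymm z y hy]; exact hself z)
      have hyiT : y⁻¹ ∉ T := fun h => hyT (by
        have := hinvT _ h (by rwa [inv_pow, inv_ne_one])
        rwa [inv_inv] at this)
      have h1 := hNy y hyp
      rw [if_neg hyiT, if_neg hyT, add_zero, hconst z y hy, hNz z hz, CharP.cast_eq_zero_iff (ZMod p) p] at h1
      exact Nat.eq_zero_of_dvd_of_lt h1 (lt_of_le_of_lt (Finset.card_filter_le _ _) hAp)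
    have hclosed : ∀ u v : C, u ∈ A → v ∈ A → u ≠ v → u * v⁻¹ ∈ A := by
      intro u v hu hv huv
      have hp' : (u * v⁻¹) ^ p = 1 := by
        rw [mul_pow, inv_pow, ((hmA u).1 hu).2, ((hmA v).1 hv).2, inv_one, one_mul]
      refine (hmA _).2 ⟨?_, hp'⟩
      by_contra hnot
      have h0 := hzero _ hp' (fun h => huv (mul_inv_eq_one.1 h)) hnot
      have : u ∈ A.filter fun t => (u * v⁻¹)⁻¹ * t ∈ T := Finset.mem_filter.2 ⟨hu, by
        rw [mul_inv_rev, inv_inv, mul_assoc, inv_mul_cancel, mul_one]; exact ((hmA v).1 hv).1⟩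
      rw [Finset.card_eq_zero.1 h0] at this
      exact absurd this (Finset.notMem_empty u)
    obtain ⟨y₁, hy₁, hy₁p⟩ := hout k hk
    have hcA : ∀ u ∈ A, c u + p = A.card + A.card := by
      intro u hu
      obtain ⟨huT, hup⟩ := (hmA u).1 hu
      have hcu : c u < A.card := by
        refine Finset.card_lt_card ⟨Finset.filter_subset _ _, fun hsub => ?_⟩
        have := (Finset.mem_filter.1 (hsub hu)).2
        rw [inv_mul_cancel] at this
        exact hone k hk this
      have h1 := hNy y₁ hy₁p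
      rw [if_pos (hinvT y₁ hy₁ hy₁p), if_pos hy₁, hconst u y₁ (by rw [hsymm k u huT]; exact hy₁), hNz u hup,
        ← Nat.cast_add, ZMod.natCast_eq_natCast_iff', Nat.mod_eq_of_lt (hcu.trans hAp)] at h1
      rcases Nat.lt_or_ge (A.card + A.card) p with h2 | h2
      · rw [Nat.mod_eq_of_lt h2] at h1; omega
      · rw [Nat.mod_eq_sub_mod h2, Nat.mod_eq_of_lt (by omega)] at h1; omega
    have hpairs : ∑ u ∈ A, c u = A.offDiag.card := by
      simp only [c]
      rw [← Finset.card_sigma]
      refine Finset.card_bij' (fun w _ => (w.2, w.1⁻¹ * w.2)) (fun w _ => ⟨w.1 * w.2⁻¹, w.1⟩) ?_ ?_ ?_ ?_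
      · rintro ⟨u, t⟩ h
        simp only [Finset.mem_sigma, Finset.mem_filter] at h
        obtain ⟨hu, ht, hut⟩ := h
        refine Finset.mem_offDiag.2 ⟨ht, (hmA _).2 ⟨hut, ?_⟩, fun h => ?_⟩
        · rw [mul_pow, inv_pow, ((hmA u).1 hu).2, ((hmA t).1 ht).2, inv_one, one_mul]
        · have h' : u = 1 := inv_eq_one.1 (mul_eq_right.1 h.symm)
          exact hone k hk (h' ▸ ((hmA u).1 hu).1)
      · rintro ⟨u, v⟩ h
        obtain ⟨hu, hv, huv⟩ := Finset.mem_offDiag.1 h
        simp only [Finset.mem_sigma, Finset.mem_filter]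
        refine ⟨hclosed u v hu hv huv, hu, ?_⟩
        rw [mul_inv_rev, inv_inv, mul_assoc, inv_mul_cancel, mul_one]
        exact ((hmA v).1 hv).1
      · rintro ⟨u, t⟩ _
        simp
      · rintro ⟨u, v⟩ _
        simp
    have hcount : A.card + 1 = p := by
      have hsum : ∑ u ∈ A, (c u + p) = A.card * (A.card + A.card) := by
        rw [Finset.sum_congr rfl hcA, Finset.sum_const, smul_eq_mul]
      rw [Finset.sum_add_distrib, hpairs, Finset.offDiag_card, Finset.sum_const, smul_eq_mul] at hsum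
      have hpos : 0 < A.card := Finset.card_pos.2 ⟨e, heA⟩
      have hsq : A.card ≤ A.card * A.card := Nat.le_mul_self _
      have h4 : A.card * p = A.card * (A.card + 1) := by
        rw [mul_add, mul_one]
        rw [mul_add] at hsum
        omega
      exact (Nat.eq_of_mul_eq_mul_left hpos h4).symm
    intro z hz hz'
    have hAZ : A = Z.erase 1 := by
      refine Finset.eq_of_subset_of_card_le (fun t ht => Finset.mem_erase.2 ⟨?_, (hmZ t).2 ((hmA t).1 ht).2⟩) ?_
      · exact fun h => hone k hk (h ▸ ((hmA t).1 ht).1)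
      · rw [Finset.card_erase_of_mem ((hmZ 1).2 (one_pow p)), hZc]; omega
    have hzA : z ∈ A := by
      rw [hAZ]; exact Finset.mem_erase.2 ⟨hz', (hmZ z).2 hz⟩
    exact ((hmA z).1 hzA).1
  obtain ⟨e, he, hep⟩ := hmeet y hy
  have he1 : e ≠ 1 := fun h => hone y hy (h ▸ he)
  have h1 : orb x = orb y := (hsymm x e (hall x hx e hep he1)).symm.trans (hsymm y e he)
  have : y ∈ orb x := h1 ▸ hself y
  exact this

end Cfsg.Agent.PrimePowerCycle
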