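import Cfsg.Agent.PermGroups.SymmetricGroup

/-!
Subgroups of index six in the symmetric group of degree six.
-/

set_option autoImplicit false

namespace Cfsg.Agent.PermGroups.Sym.Six

open Equiv MulAction Subgroup

/-- the colour of an edge in a one-factorisation of the complete graph on six points -/
def col (i j : Fin 6) : ℕ := if (i : ℕ) = 5 then 2 * j % 5 else if (j : ℕ) = 5 then 2 * i % 5 else (i + j) % 5

/-- a representative edge of each colour -/
def edge (k : ℕ) : Fin 6 × Fin 6 := if k = 0 then (0, 5) else (0, Fin.ofNat 6 k)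

theorem edge_spec : ∀ k < 5, (edge k).1 ≠ (edge k).2 ∧ col (edge k).1 (edge k).2 = k := by decide

theorem col_lt (i j : Fin 6) : col i j < 5 := by
  unfold col
  split_ifs <;> exact Nat.mod_lt _ (by norm_num)

/-- preserving the colour classes -/
def P (g : Perm (Fin 6)) : Prop :=
  ∀ i j, i ≠ j → col (g i) (g j) = col (g (edge (col i j)).1) (g (edge (col i j)).2)

instance (g : Perm (Fin 6)) : Decidable (P g) := inferInstanceAs (Decidable (∀ _, _))

/-- the exotic subgroup of index six -/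
def total : Subgroup (Perm (Fin 6)) :=
  let M : Submonoid (Perm (Fin 6)) :=
    { carrier := {g | P g}
      one_mem' := fun i j h => by
        have := (edge_spec _ (col_lt i j)).2
        simpa using this.symm
      mul_mem' := fun {g h} hg hh i j hij => by
        have he := (edge_spec _ (col_lt i j)).1
        simp only [Perm.mul_apply]
        rw [hg _ _ (h.injective.ne hij), hg _ _ (h.injective.ne he), hh i j hij] }
  { M with
    inv_mem' := fun {g} hg => by
      have : g⁻¹ = g ^ (orderOf g - 1) := by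
        rw [eq_comm, ← mul_eq_one_iff_eq_inv, ← pow_succ, Nat.sub_add_cancel (orderOf_pos g), pow_orderOf_eq_one]
      rw [this]
      exact M.pow_mem hg _ }

theorem mem_total {g : Perm (Fin 6)} : g ∈ total ↔ P g := Iff.rfl

theorem card_total : Nat.card total = 120 := by
  rw [Nat.card_congr (Equiv.subtypeEquivRight fun g => mem_total (g := g)), Nat.card_eq_fintype_card, Fintype.card_subtype]
  decide +kernel

theorem index_total : total.index = 6 := by
  have := Subgroup.card_mul_index total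
  rw [card_total, Nat.card_perm, Nat.card_eq_fintype_card, Fintype.card_fin] at this
  have h : Nat.factorial 6 = 720 := rfl
  omega

theorem total_moves : ∀ x : Fin 6, ∃ g : Perm (Fin 6), g ∈ total ∧ g x ≠ x := by
  have : ∀ x : Fin 6, ∃ g : Perm (Fin 6), P g ∧ g x ≠ x := by decide +kernel
  exact this

variable {α : Type*} [Fintype α] [DecidableEq α]

theorem exists_auto (h6 : Fintype.card α = 6) (H : Subgroup (Perm α)) (hH : H.index = 6) :
    ∃ (ψ : Perm α ≃* Perm α) (x : α), ∀ g, g ∈ H ↔ ψ g x = x := by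
  have hinj := normalCore_eq_bot (α := α) (by omega) H (by omega)
  rw [normalCore_eq_ker, MonoidHom.ker_eq_bot_iff] at hinj
  have hcard : Nat.card (Perm α ⧸ H) = Nat.card α := by rw [Nat.card_eq_fintype_card (α := α), h6]; exact hH
  obtain ⟨e⟩ : Nonempty ((Perm α ⧸ H) ≃ α) := ⟨(Finite.equivFinOfCardEq hcard).trans (Finite.equivFin α).symm⟩
  let ρ : Perm α →* Perm α := e.permCongrHom.toMonoidHom.comp (MulAction.toPermHom (Perm α) (Perm α ⧸ H))
  have hρ : Function.Injective ρ := e.permCongrHom.injective.comp hinj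
  refine ⟨MulEquiv.ofBijective ρ (Finite.injective_iff_bijective.1 hρ), e (QuotientGroup.mk 1), fun g => ?_⟩
  show g ∈ H ↔ e ((MulAction.toPermHom (Perm α) (Perm α ⧸ H) g) (e.symm (e (QuotientGroup.mk 1)))) = _
  rw [Equiv.symm_apply_apply, e.injective.eq_iff, MulAction.toPermHom_apply, MulAction.toPerm_apply, MulAction.Quotient.smul_mk,
    smul_eq_mul, mul_one, QuotientGroup.eq, mul_one, inv_mem_iff]

omit [Fintype α] in
theorem mem_of_inner {H : Subgroup (Perm α)} {ψ : Perm α ≃* Perm α} {x : α} (h : ∀ g, g ∈ H ↔ ψ g x = x) {σ : Perm α}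
    (hσ : ∀ g, ψ g = σ * g * σ⁻¹) : H = stabilizer (Perm α) (σ⁻¹ x) := by
  ext g
  rw [h, hσ, Perm.mul_apply, Perm.mul_apply, mem_stabilizer_iff, Perm.smul_def, Perm.eq_inv_iff_eq]

theorem cycleType_three (h6 : Fintype.card α = 6) (ψ : Perm α ≃* Perm α) {g : Perm α} (hg : g.IsSwap) (hn : ¬(ψ g).IsSwap) :
    (ψ g).cycleType = Multiset.replicate 3 2 := by
  have ho : orderOf (ψ g) = 2 := by rw [MulEquiv.orderOf_eq, hg.orderOf]
  obtain ⟨k, hk⟩ := Perm.cycleType_prime_order (σ := ψ g) (ho.symm ▸ Nat.prime_two)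
  rw [ho] at hk
  have hs := (ψ g).sum_cycleType
  rw [hk, Multiset.sum_replicate, smul_eq_mul] at hs
  have := Finset.card_le_univ (ψ g).support
  obtain rfl | rfl | rfl : k = 0 ∨ k = 1 ∨ k = 2 := by omega
  · exact absurd (Perm.isSwap_iff_cycleType.2 hk) hn
  · exfalso
    have h1 := Perm.nat_card_centralizer g
    have h2 := Perm.nat_card_centralizer (ψ g)
    have e : Nat.card (centralizer {g}) = Nat.card (centralizer {ψ g}) := by
      refine Nat.card_congr ((ψ : Perm α ≃ Perm α).subtypeEquiv fun x => ?_)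
      simp only [mem_centralizer_singleton_iff]
      rw [← ψ.injective.eq_iff, map_mul, map_mul]
      rfl
    rw [e, h2, hk, Perm.isSwap_iff_cycleType.1 hg, h6] at h1
    exact absurd h1 (by decide)
  · exact hk

theorem not_isSwap_map (ψ : Perm α ≃* Perm α) (hs : ¬∀ g : Perm α, g.IsSwap → (ψ g).IsSwap) :
    ∀ g : Perm α, g.IsSwap → ¬(ψ g).IsSwap := by
  push Not at hs
  obtain ⟨g₀, hg₀, hn⟩ := hs
  intro g hg hψg
  have hc : IsConj g g₀ := Perm.isConj_iff_cycleType_eq.2 (by rw [Perm.isSwap_iff_cycleType.1 hg, Perm.isSwap_iff_cycleType.1 hg₀])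
  have := Perm.isConj_iff_cycleType_eq.1 ((ψ : Perm α →* Perm α).map_isConj hc)
  exact hn (Perm.isSwap_iff_cycleType.2 (this.symm.trans (Perm.isSwap_iff_cycleType.1 hψg)))

/-- the outer automorphism -/
theorem exists_outer (h6 : Fintype.card α = 6) :
    ∃ θ : Perm α ≃* Perm α, ∀ g : Perm α, g.IsSwap → ¬(θ g).IsSwap := by
  obtain ⟨ψ, x, hψ⟩ := exists_auto (α := Fin 6) (Fintype.card_fin 6) total index_total
  have hns : ¬∀ g : Perm (Fin 6), g.IsSwap → (ψ g).IsSwap := fun hs => by
    obtain ⟨σ, hσ⟩ := exists_conj_of_swap ψ hs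
    obtain ⟨g, hg, hgx⟩ := total_moves (σ⁻¹ x)
    exact hgx ((mem_of_inner hψ hσ).le hg)
  let e : α ≃ Fin 6 := Fintype.equivFinOfCardEq h6
  refine ⟨(e.permCongrHom.trans ψ).trans e.permCongrHom.symm, fun g hg hsw => ?_⟩
  obtain ⟨a, b, hab, rfl⟩ := hg
  have e1 : e.permCongrHom (swap a b) = swap (e a) (e b) := Equiv.ext fun y => by
    simp [Equiv.permCongr_apply, swap_apply_def, apply_ite e, Equiv.symm_apply_eq]
  obtain ⟨c, d, hcd, hc⟩ := hsw
  refine not_isSwap_map ψ hns _ ⟨_, _, e.injective.ne hab, rfl⟩ ⟨e c, e d, e.injective.ne hcd, ?_⟩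
  have hc' := congrArg e.permCongrHom hc
  rw [MulEquiv.trans_apply, MulEquiv.trans_apply, MulEquiv.apply_symm_apply, e1] at hc'
  rw [hc']
  ext y
  simp [Equiv.permCongr_apply, swap_apply_def, apply_ite e, Equiv.symm_apply_eq]

/-- every subgroup of index six is a point stabiliser or its image under the outer automorphism -/
theorem index_six (h6 : Fintype.card α = 6) (θ : Perm α ≃* Perm α) (hθ : ∀ g : Perm α, g.IsSwap → ¬(θ g).IsSwap)
    (H : Subgroup (Perm α)) (hH : H.index = 6) :
    ∃ x : α, H = stabilizer (Perm α) x ∨ H = (stabilizer (Perm α) x).comap θ.toMonoidHom := by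
  obtain ⟨ψ, x, hψ⟩ := exists_auto h6 H hH
  by_cases hs : ∀ g : Perm α, g.IsSwap → (ψ g).IsSwap
  · obtain ⟨σ, hσ⟩ := exists_conj_of_swap ψ hs
    exact ⟨_, Or.inl (mem_of_inner hψ hσ)⟩
  have hψn := not_isSwap_map ψ hs
  obtain ⟨σ, hσ⟩ := exists_conj_of_swap (θ.symm.trans ψ) fun g hg => by
    by_contra hn
    by_cases hg' : (θ.symm g).IsSwap
    · exact hθ _ hg' (by rwa [MulEquiv.apply_symm_apply])
    have h1 := cycleType_three h6 θ.symm hg hg'
    obtain ⟨a, b, hab⟩ : ∃ a b : α, a ≠ b := Fintype.exists_pair_of_one_lt_card (by omega)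
    have hψ' : ¬(ψ.symm (swap a b)).IsSwap := fun h => hψn _ h (by rw [MulEquiv.apply_symm_apply]; exact ⟨a, b, hab, rfl⟩)
    have h2 := cycleType_three h6 ψ.symm ⟨a, b, hab, rfl⟩ hψ'
    have hc := (ψ : Perm α →* Perm α).map_isConj (Perm.isConj_iff_cycleType_eq.2 (h1.trans h2.symm))
    simp only [MonoidHom.coe_coe, MulEquiv.apply_symm_apply] at hc
    refine hn (Perm.isSwap_iff_cycleType.2 ?_)
    rw [MulEquiv.trans_apply, Perm.isConj_iff_cycleType_eq.1 hc, Perm.isSwap_iff_cycleType.1 ⟨a, b, hab, rfl⟩]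
  refine ⟨σ⁻¹ x, Or.inr ?_⟩
  ext g
  rw [hψ, Subgroup.mem_comap, mem_stabilizer_iff, Perm.smul_def, MulEquiv.coe_toMonoidHom, Perm.eq_inv_iff_eq]
  have := hσ (θ g)
  rw [MulEquiv.trans_apply, MulEquiv.symm_apply_apply] at this
  rw [this, Perm.mul_apply, Perm.mul_apply]

theorem index_stabilizer (h6 : Fintype.card α = 6) (x : α) : (stabilizer (Perm α) x).index = 6 := by
  rw [index_stabilizer_of_transitive, Nat.card_eq_fintype_card, h6]

theorem index_comap (h6 : Fintype.card α = 6) (θ : Perm α ≃* Perm α) (x : α) :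
    ((stabilizer (Perm α) x).comap θ.toMonoidHom).index = 6 := by
  rw [index_comap_of_surjective _ θ.surjective, index_stabilizer h6]

/-- the exotic subgroups fix no point -/
theorem comap_ne_stabilizer (h6 : Fintype.card α = 6) (θ : Perm α ≃* Perm α) (hθ : ∀ g : Perm α, g.IsSwap → ¬(θ g).IsSwap)
    (x y : α) : (stabilizer (Perm α) x).comap θ.toMonoidHom ≠ stabilizer (Perm α) y := fun h => by
  obtain ⟨a, ha, b, hb, hab⟩ := Finset.one_lt_card.1 (show 1 < (Finset.univ.erase y).card by
    rw [Finset.card_erase_of_mem (Finset.mem_univ y), Finset.card_univ, h6]; omega)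
  have hmem : swap a b ∈ stabilizer (Perm α) y := by
    rw [mem_stabilizer_iff, Perm.smul_def, swap_apply_of_ne_of_ne (Finset.ne_of_mem_erase ha).symm (Finset.ne_of_mem_erase hb).symm]
  rw [← h, Subgroup.mem_comap, mem_stabilizer_iff, Perm.smul_def] at hmem
  have h3 := cycleType_three h6 θ ⟨a, b, hab, rfl⟩ (hθ _ ⟨a, b, hab, rfl⟩)
  have hu : (θ (swap a b)).support = Finset.univ := Finset.eq_univ_of_card _ (by
    rw [← Perm.sum_cycleType, h3, h6]; rfl)
  exact Perm.mem_support.1 (hu.ge (Finset.mem_univ x)) hmem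

theorem stabilizer_injective (h6 : Fintype.card α = 6) : Function.Injective (fun x : α => stabilizer (Perm α) x) := by
  intro x y h
  by_contra hxy
  obtain ⟨z, -, hz⟩ := Finset.exists_mem_notMem_of_card_lt_card (s := ({x, y} : Finset α)) (t := Finset.univ)
    ((Finset.card_le_two).trans_lt (by rw [Finset.card_univ, h6]; omega))
  simp only [Finset.mem_insert, Finset.mem_singleton, not_or] at hz
  have : swap y z ∈ stabilizer (Perm α) x := by
    rw [mem_stabilizer_iff, Perm.smul_def, swap_apply_of_ne_of_ne hxy (Ne.symm hz.1)]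
  rw [show stabilizer (Perm α) x = stabilizer (Perm α) y from h, mem_stabilizer_iff, Perm.smul_def, swap_apply_left] at this
  exact hz.2 this

theorem map_conj_stabilizer (σ : Perm α) (x : α) :
    (stabilizer (Perm α) x).map (MulAut.conj σ).toMonoidHom = stabilizer (Perm α) (σ x) :=
  (stabilizer_smul_eq_stabilizer_map_conj σ x).symm

end Cfsg.Agent.PermGroups.Sym.Six
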