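import Mathlib.GroupTheory.GroupAction.MultiplePrimitivity
import Mathlib.GroupTheory.GroupAction.SubMulAction.OfStabilizer
import Mathlib.GroupTheory.PGroup

/-!
Elementary facts on normal subgroups of transitive, primitive and regular actions.
-/

set_option autoImplicit false

namespace Cfsg.Agent.PermGroups

open MulAction

variable {G : Type*} [Group G] {X : Type*} [MulAction G X]

theorem smul_inj_of_regular {N : Subgroup G} {a : X} (h : stabilizer N a = ⊥) {m k : N} (e : m • a = k • a) :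
    m = k := by
  have : k⁻¹ * m ∈ stabilizer N a := by rw [mem_stabilizer_iff, mul_smul, e, inv_smul_smul]
  rw [h, Subgroup.mem_bot, inv_mul_eq_one] at this
  exact this.symm

theorem transitive_of_normal [FaithfulSMul G X] [IsPreprimitive G X] (N : Subgroup G) [N.Normal] (hN : N ≠ ⊥) :
    IsPretransitive N X := by
  refine IsQuasiPreprimitive.isPretransitive_of_normal (G := G) fun h => hN ?_
  rw [Subgroup.eq_bot_iff_forall]
  intro g hg
  refine FaithfulSMul.eq_of_smul_eq_smul (α := X) fun x => ?_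
  rw [one_smul]
  have : x ∈ fixedPoints N X := h ▸ Set.mem_univ x
  exact this ⟨g, hg⟩

theorem faithful_ofStabilizer [FaithfulSMul G X] (a : X) :
    FaithfulSMul (stabilizer G a) (SubMulAction.ofStabilizer G a) := ⟨fun {g h} e => by
  refine Subtype.ext (FaithfulSMul.eq_of_smul_eq_smul (α := X) fun x => ?_)
  by_cases hx : x = a
  · subst hx; exact (g.2).trans h.2.symm
  · exact congrArg Subtype.val (e ⟨x, hx⟩)⟩

/-- `j`-transitivity of the point stabiliser in a transitive normal subgroup, lifted. -/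
theorem normal_succ_transitive (N : Subgroup G) [IsPretransitive N X] {a : X} {j : ℕ}
    (h : IsMultiplyPretransitive (N.subgroupOf (stabilizer G a)) (SubMulAction.ofStabilizer G a) j) :
    IsMultiplyPretransitive N X (j + 1) := by
  rw [← Nat.succ_eq_add_one, SubMulAction.ofStabilizer.isMultiplyPretransitive (a := a)]
  refine ⟨fun x y => ?_⟩
  let f : SubMulAction.ofStabilizer N a → SubMulAction.ofStabilizer G a := fun z => ⟨z.1, z.2⟩
  have hf : Function.Injective f := fun z w e => Subtype.ext (congrArg Subtype.val e :)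
  obtain ⟨g, hg⟩ := h.exists_smul_eq (x.trans ⟨f, hf⟩) (y.trans ⟨f, hf⟩)
  refine ⟨⟨⟨g.1.1, g.2⟩, g.1.2⟩, Function.Embedding.ext fun i => Subtype.ext ?_⟩
  exact congrArg Subtype.val (DFunLike.congr_fun hg i)

theorem subgroupOf_stabilizer_ne_bot {N : Subgroup G} [IsPretransitive N X] {b : X} (hb : stabilizer N b ≠ ⊥)
    (a : X) : N.subgroupOf (stabilizer G a) ≠ ⊥ := by
  intro h
  apply hb
  obtain ⟨n, hn⟩ := exists_smul_eq N b a
  rw [Subgroup.eq_bot_iff_forall]
  intro m hm
  have hm' : n * m * n⁻¹ ∈ stabilizer N a := by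
    rw [mem_stabilizer_iff, mul_smul, mul_smul, ← hn, inv_smul_smul, mem_stabilizer_iff.1 hm]
  have h1 : (⟨((n * m * n⁻¹ : N) : G), hm'⟩ : stabilizer G a) ∈ N.subgroupOf (stabilizer G a) := (n * m * n⁻¹).2
  rw [h, Subgroup.mem_bot] at h1
  have h2 : n * m * n⁻¹ = 1 := Subtype.ext (congrArg Subtype.val h1 :)
  rwa [conj_eq_one_iff] at h2

theorem stabilizer_eq_bot_of_subgroupOf {N : Subgroup G} {a : X} {b : SubMulAction.ofStabilizer G a}
    (h : stabilizer (N.subgroupOf (stabilizer G a)) b = ⊥) (n : N) (ha : n • a = a) (hb : n • (b : X) = b) :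
    n = 1 := by
  have h1 : (⟨⟨n.1, ha⟩, n.2⟩ : N.subgroupOf (stabilizer G a)) ∈ stabilizer (N.subgroupOf (stabilizer G a)) b :=
    Subtype.ext hb
  rw [h, Subgroup.mem_bot] at h1
  exact Subtype.ext (congrArg (fun t : N.subgroupOf (stabilizer G a) => ((t : stabilizer G a) : G)) h1 :)

/-- A finite commutative group of exponent two acting sharply on the rest, inside a group with an abelian
regular normal subgroup, has order at most two. -/
theorem involution_unique_of_regular {N : Subgroup G} {a : X} (hreg : stabilizer N a = ⊥) [N.Normal] [Finite N]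
    {g h : G} (hg : g • a = a) (hh : h • a = a) (hg2 : g * g = 1) (hh2 : h * h = 1)
    (hgfix : ∀ n ∈ N, g * n * g⁻¹ = n → n = 1) (hhfix : ∀ n ∈ N, h * n * h⁻¹ = n → n = 1) (n : N) :
    g • n • a = h • n • a := by
  have key : ∀ (t : G), t * t = 1 → (∀ m ∈ N, t * m * t⁻¹ = m → m = 1) → t • a = a →
      t • n • a = ((n⁻¹ : N) : G) • a := by
    intro t ht2 htfix hta
    let φ : N → N := fun m => ⟨(m : G)⁻¹ * (t * m * t⁻¹), N.mul_mem (N.inv_mem m.2) (‹N.Normal›.conj_mem _ m.2 t)⟩
    have hinj : Function.Injective φ := fun m k e => by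
      have e' : (m : G)⁻¹ * (t * m * t⁻¹) = (k : G)⁻¹ * (t * k * t⁻¹) := congrArg Subtype.val e
      have h1 := htfix ((k : G) * (m : G)⁻¹) (N.mul_mem k.2 (N.inv_mem m.2)) (by
        calc t * ((k : G) * (m : G)⁻¹) * t⁻¹
            = (k : G) * ((k : G)⁻¹ * (t * k * t⁻¹)) * (t * m * t⁻¹)⁻¹ := by group
          _ = (k : G) * ((m : G)⁻¹ * (t * m * t⁻¹)) * (t * m * t⁻¹)⁻¹ := by rw [e']
          _ = (k : G) * (m : G)⁻¹ := by group)
      exact Subtype.ext (mul_inv_eq_one.1 h1).symm
    obtain ⟨m, hm⟩ := (Finite.injective_iff_surjective.1 hinj) n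
    have hm' : (n : G) = (m : G)⁻¹ * (t * m * t⁻¹) := congrArg Subtype.val hm.symm
    have hti : t⁻¹ = t := inv_eq_of_mul_eq_one_right ht2
    have : t * (n : G) * t⁻¹ = (n : G)⁻¹ := by
      rw [hm', hti]
      calc t * ((m : G)⁻¹ * (t * m * t)) * t = t * (m : G)⁻¹ * t * m * (t * t) := by group
        _ = t⁻¹ * (m : G)⁻¹ * t⁻¹ * m := by rw [ht2, mul_one, hti]
        _ = ((m : G)⁻¹ * (t * m * t))⁻¹ := by group
    show t • (n : G) • a = _
    rw [Subgroup.coe_inv, ← this, mul_smul, mul_smul, inv_smul_eq_iff.2 hta.symm]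
  rw [key g hg2 hgfix hg, key h hh2 hhfix hh]

end Cfsg.Agent.PermGroups
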