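import Cfsg.Agent.PermGroups.Basic
import Cfsg.Agent.Char.Frobenius
import Mathlib.GroupTheory.GroupAction.Quotient
import Mathlib.GroupTheory.GroupAction.Embedding

/-!
Frobenius kernels of transitive actions with trivial two point stabilisers.
-/

set_option autoImplicit false

namespace Cfsg.Agent.PermGroups

open MulAction

variable {N : Type*} [Group N] [Finite N] {X : Type*} [MulAction N X] [Finite X]

/-- The fixed point free elements and the identity form a regular normal subgroup. -/
theorem exists_regular_kernel [IsPretransitive N X] (hsharp : ∀ (n : N) (x y : X), x ≠ y → n • x = x → n • y = y → n = 1)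
    (a : X) :
    ∃ K : Subgroup N, K.Normal ∧ (∀ n : N, n ∈ K ↔ n = 1 ∨ ∀ x : X, n • x ≠ x) ∧ (∀ x : X, stabilizer K x = ⊥) ∧
      IsPretransitive K X ∧ Nat.card K = Nat.card X := by
  set H := stabilizer N a
  obtain ⟨K, hK, hcompl, hmem⟩ := Cfsg.Agent.Char.frobenius_kernel H fun g hg h hh hgh => by
    have h2 : h • g⁻¹ • a = g⁻¹ • a := by
      apply smul_left_cancel g
      rw [← mul_smul, ← mul_smul, smul_inv_smul]
      exact hgh
    refine hsharp h a (g⁻¹ • a) (fun e => hg ?_) hh h2
    rw [mem_stabilizer_iff]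
    conv_lhs => rw [e]
    rw [smul_inv_smul]
  have hmem' : ∀ n : N, n ∈ K ↔ n = 1 ∨ ∀ x : X, n • x ≠ x := fun n => by
    rw [hmem]
    refine or_congr_right ⟨fun h x hx => ?_, fun h g hg => ?_⟩
    · obtain ⟨g, rfl⟩ := exists_smul_eq N a x
      refine h g ?_
      rw [mem_stabilizer_iff, mul_smul, mul_smul, hx, inv_smul_smul]
    · refine h (g • a) ?_
      rw [mem_stabilizer_iff, mul_smul, mul_smul, inv_smul_eq_iff] at hg
      exact hg
  have hreg : ∀ x : X, stabilizer K x = ⊥ := fun x => by
    rw [eq_bot_iff]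
    intro k hk
    rcases (hmem' k).1 k.2 with h | h
    · exact Subgroup.mem_bot.2 (Subtype.ext h)
    · exact absurd hk (h x)
  have hcard : Nat.card K = Nat.card X := by
    have h1 := hcompl.card_mul
    have h2 := H.index_mul_card
    rw [index_stabilizer_of_transitive] at h2
    exact Nat.eq_of_mul_eq_mul_right Nat.card_pos (h1.trans h2.symm)
  have hbij : Function.Bijective fun k : K => k • a := by
    rw [Nat.bijective_iff_injective_and_card]
    exact ⟨fun m k e => smul_inj_of_regular (hreg a) e, hcard⟩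
  refine ⟨K, hK, hmem', hreg, ⟨fun x y => ?_⟩, hcard⟩
  obtain ⟨k, hk⟩ := hbij.2 x
  obtain ⟨l, hl⟩ := hbij.2 y
  have hk' : k • a = x := hk
  exact ⟨l * k⁻¹, by rw [mul_smul, ← hk', inv_smul_smul]; exact hl⟩

/-- sharply two transitive with stabilisers of exponent two: at most three points -/
theorem card_le_three_of_sharp [FaithfulSMul N X] [IsPretransitive N X]
    (hsharp : ∀ (n : N) (x y : X), x ≠ y → n • x = x → n • y = y → n = 1)
    (a : X) (hsq : ∀ n : N, n • a = a → n * n = 1)
    (htr : ∀ x y : X, x ≠ a → y ≠ a → ∃ n : N, n • a = a ∧ n • x = y) :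
    Nat.card X ≤ 3 := by
  classical
  obtain ⟨K, hK, -, hreg, hKtr, -⟩ := exists_regular_kernel hsharp a
  by_contra hn
  have : Fintype X := Fintype.ofFinite X
  rw [Nat.card_eq_fintype_card] at hn
  obtain ⟨b, hb⟩ := Fintype.exists_ne_of_one_lt_card (show 1 < Fintype.card X by omega) a
  -- two different non-trivial elements of the stabiliser
  obtain ⟨c, -, hc⟩ := Finset.exists_mem_notMem_of_card_lt_card (s := ({a, b} : Finset X)) (t := Finset.univ)
    (lt_of_le_of_lt Finset.card_le_two (by rw [Finset.card_univ]; omega))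
  obtain ⟨d, -, hd⟩ := Finset.exists_mem_notMem_of_card_lt_card (s := ({a, b, c} : Finset X)) (t := Finset.univ)
    (lt_of_le_of_lt Finset.card_le_three (by rw [Finset.card_univ]; omega))
  simp only [Finset.mem_insert, Finset.mem_singleton, not_or] at hc hd
  obtain ⟨g, hga, hgc⟩ := htr b c hb hc.1
  obtain ⟨h, hha, hhd⟩ := htr b d hb hd.1
  have hfix : ∀ t : N, t • a = a → t • b ≠ b → ∀ n ∈ K, t * n * t⁻¹ = n → n = 1 := fun t hta htb n hn hc' => by
    by_contra hn1
    have hna : (n : N) • a ≠ a := fun e => hn1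
      (congrArg Subtype.val (smul_inj_of_regular (hreg a) (m := ⟨n, hn⟩) (k := 1) (by rw [one_smul]; exact e)) :)
    have h2 : t • n • a = n • a := by
      rw [← mul_smul, show t * n = n * t by conv_rhs => rw [← hc', inv_mul_cancel_right], mul_smul, hta]
    exact htb (by rw [hsharp t a (n • a) (Ne.symm hna) hta h2, one_smul])
  have hagree : ∀ x, g • x = h • x := fun x => by
    obtain ⟨n, rfl⟩ := exists_smul_eq K a x
    exact involution_unique_of_regular (hreg a) hga hha (hsq g hga) (hsq h hha)
      (hfix g hga (by rw [hgc]; exact hc.2)) (hfix h hha (by rw [hhd]; exact hd.2.1)) n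
  exact hd.2.2 (by rw [← hhd, ← hagree b, hgc])

end Cfsg.Agent.PermGroups
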