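import Mathlib

/-! The largest abelian subgroups of symmetric and alternating groups. -/

set_option autoImplicit false

namespace Cfsg.Agent.PermGroups.MaxAbelian

open Equiv Equiv.Perm MulAction

/-- The largest product of parts of a partition of `n`. -/
def mx : ℕ → ℕ
  | 0 => 1 | 1 => 1 | 2 => 2 | 3 => 3 | 4 => 4
  | n + 5 => 3 * mx (n + 2)

/-- The largest order of an abelian group of even permutations of `n` points. -/
def mxAlt : ℕ → ℕ
  | 0 => 1 | 1 => 1 | 2 => 1 | 3 => 3 | 4 => 4 | 5 => 5 | 6 => 9 | 7 => 12 | 8 => 16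
  | n + 9 => 3 * mxAlt (n + 6)

theorem three_mul_mx : ∀ s : ℕ, 3 * mx s ≤ mx (s + 3)
  | 0 => by decide
  | 1 => by decide
  | n + 2 => le_of_eq rfl

theorem mul_mx : ∀ m r : ℕ, 1 ≤ m → m * mx r ≤ mx (m + r) := by
  intro m
  induction m using Nat.strong_induction_on with
  | _ m ih =>
    intro r hm
    by_cases h5 : 5 ≤ m
    · calc m * mx r ≤ 3 * (m - 3) * mx r := Nat.mul_le_mul_right _ (by omega)
        _ = 3 * ((m - 3) * mx r) := Nat.mul_assoc _ _ _
        _ ≤ 3 * mx (m - 3 + r) := Nat.mul_le_mul_left _ (ih _ (by omega) r (by omega))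
        _ ≤ mx (m - 3 + r + 3) := three_mul_mx _
        _ = mx (m + r) := by congr 1; omega
    · induction r using Nat.strong_induction_on with
      | _ r ihr =>
        by_cases hr : 5 ≤ r
        · obtain ⟨s, rfl⟩ := Nat.exists_eq_add_of_le' hr
          calc m * mx (s + 5) = 3 * (m * mx (s + 2)) := by rw [mx]; ring
            _ ≤ 3 * mx (m + (s + 2)) := Nat.mul_le_mul_left _ (ihr _ (by omega))
            _ ≤ mx (m + (s + 2) + 3) := three_mul_mx _
        · have h : ∀ m < 5, ∀ r < 5, 1 ≤ m → m * mx r ≤ mx (m + r) := by decide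
          exact h m (by omega) r (by omega) hm

theorem three_mul_mxAlt : ∀ s : ℕ, 3 * mxAlt s ≤ mxAlt (s + 3)
  | 0 => by decide
  | 1 => by decide
  | 2 => by decide
  | 3 => by decide
  | 4 => by decide
  | 5 => by decide
  | n + 6 => le_of_eq rfl

theorem mul_mxAlt : ∀ m r : ℕ, 1 ≤ m → m ≠ 2 → m * mxAlt r ≤ mxAlt (m + r) := by
  intro m
  induction m using Nat.strong_induction_on with
  | _ m ih =>
    intro r hm hm2
    by_cases h9 : 9 ≤ m
    · calc m * mxAlt r ≤ 3 * (m - 3) * mxAlt r := Nat.mul_le_mul_right _ (by omega)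
        _ = 3 * ((m - 3) * mxAlt r) := Nat.mul_assoc _ _ _
        _ ≤ 3 * mxAlt (m - 3 + r) := Nat.mul_le_mul_left _ (ih _ (by omega) r (by omega) (by omega))
        _ ≤ mxAlt (m - 3 + r + 3) := three_mul_mxAlt _
        _ = mxAlt (m + r) := by congr 1; omega
    · induction r using Nat.strong_induction_on with
      | _ r ihr =>
        by_cases hr : 9 ≤ r
        · obtain ⟨s, rfl⟩ := Nat.exists_eq_add_of_le' hr
          calc m * mxAlt (s + 9) = 3 * (m * mxAlt (s + 6)) := by rw [mxAlt]; ring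
            _ ≤ 3 * mxAlt (m + (s + 6)) := Nat.mul_le_mul_left _ (ihr _ (by omega))
            _ ≤ mxAlt (m + (s + 6) + 3) := three_mul_mxAlt _
        · have h : ∀ m < 9, ∀ r < 9, 1 ≤ m → m ≠ 2 → m * mxAlt r ≤ mxAlt (m + r) := by decide
          exact h m (by omega) r (by omega) hm hm2

theorem mx_le_mxAlt : ∀ r : ℕ, mx r ≤ mxAlt (r + 2) := by
  intro r
  induction r using Nat.strong_induction_on with
  | _ r ih =>
    by_cases hr : 9 ≤ r
    · obtain ⟨s, rfl⟩ := Nat.exists_eq_add_of_le' hr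
      calc mx (s + 9) = 3 * mx (s + 6) := by rw [mx]
        _ ≤ 3 * mxAlt (s + 6 + 2) := Nat.mul_le_mul_left _ (ih _ (by omega))
        _ ≤ mxAlt (s + 6 + 2 + 3) := three_mul_mxAlt _
    · have h : ∀ r < 9, mx r ≤ mxAlt (r + 2) := by decide
      exact h r (by omega)

theorem mx_values : ∀ k : ℕ, mx (3 * k) = 3 ^ k ∧ mx (3 * k + 4) = 4 * 3 ^ k ∧
    mx (3 * k + 2) = 2 * 3 ^ k
  | 0 => by decide
  | k + 1 => by
    obtain ⟨h0, h1, h2⟩ := mx_values k
    have h3 : ∀ s, 2 ≤ s → mx (s + 3) = 3 * mx s := fun s hs => by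
      obtain ⟨t, rfl⟩ := Nat.exists_eq_add_of_le' hs
      rfl
    refine ⟨?_, ?_, ?_⟩
    · rcases Nat.eq_zero_or_pos k with rfl | hk
      · rfl
      · rw [show 3 * (k + 1) = 3 * k + 3 by ring, h3 _ (by omega), h0, pow_succ']
    · rw [show 3 * (k + 1) + 4 = 3 * k + 4 + 3 by ring, h3 _ (by omega), h1, pow_succ']; ring
    · rw [show 3 * (k + 1) + 2 = 3 * k + 2 + 3 by ring, h3 _ (by omega), h2, pow_succ']; ring

theorem mxAlt_values : ∀ k : ℕ, mxAlt (3 * k + 6) = 9 * 3 ^ k ∧ mxAlt (3 * k + 7) = 12 * 3 ^ k ∧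
    mxAlt (3 * k + 8) = 16 * 3 ^ k
  | 0 => by decide
  | k + 1 => by
    obtain ⟨h0, h1, h2⟩ := mxAlt_values k
    have h3 : ∀ s, 6 ≤ s → mxAlt (s + 3) = 3 * mxAlt s := fun s hs => by
      obtain ⟨t, rfl⟩ := Nat.exists_eq_add_of_le' hs
      rfl
    refine ⟨?_, ?_, ?_⟩
    · rw [show 3 * (k + 1) + 6 = 3 * k + 6 + 3 by ring, h3 _ (by omega), h0, pow_succ']; ring
    · rw [show 3 * (k + 1) + 7 = 3 * k + 7 + 3 by ring, h3 _ (by omega), h1, pow_succ']; ring
    · rw [show 3 * (k + 1) + 8 = 3 * k + 8 + 3 by ring, h3 _ (by omega), h2, pow_succ']; ring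

variable {α : Type*} [Fintype α] [DecidableEq α]

/-- Splitting off an orbit. -/
theorem exists_split (A : Subgroup (Perm α)) (hA : IsMulCommutative A) (x : α) :
    ∃ (p : α → Prop) (_ : DecidablePred p) (B : Subgroup (Perm {y // ¬ p y}))
      (C : Subgroup (Perm {y // ¬ p y})),
      IsMulCommutative B ∧ IsMulCommutative C ∧ 1 ≤ Fintype.card {y // p y} ∧
      Nat.card A = Fintype.card {y // p y} * Nat.card B ∧
      (A ≤ alternatingGroup α → B ≤ alternatingGroup _) ∧
      (A ≤ alternatingGroup α → Fintype.card {y // p y} = 2 → Nat.card A ≤ Nat.card C) := by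
  classical
  let p : α → Prop := fun y => y ∈ orbit A x
  have hinv : ∀ g : A, ∀ y, p ((g : Perm α) y) ↔ p y := fun g y => by
    show g • y ∈ orbit A x ↔ y ∈ orbit A x
    rw [← orbit_eq_iff, ← orbit_eq_iff, orbit_smul]
  let R : A →* Perm {y // ¬ p y} :=
    { toFun := fun g => (g : Perm α).subtypePerm fun y => not_congr (hinv g y)
      map_one' := by ext; simp
      map_mul' := fun g h => Equiv.ext fun y => Subtype.ext rfl }
  have hfix : ∀ g : A, g • x = x → ∀ y, p y → (g : Perm α) y = y := by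
    rintro g hg y ⟨h, rfl⟩
    show g • h • x = h • x
    rw [← mul_smul, hA.is_comm.comm g h, mul_smul, hg]
  set B := (stabilizer A x).map R with hB
  refine ⟨p, inferInstance, B, R.range, ⟨⟨fun u v => Subtype.ext ?_⟩⟩, ⟨⟨fun u v => Subtype.ext ?_⟩⟩,
    Fintype.card_pos_iff.2 ⟨⟨x, mem_orbit_self x⟩⟩, ?_, ?_, ?_⟩
  · obtain ⟨u', -, hu⟩ := u.2
    obtain ⟨v', -, hv⟩ := v.2
    show (u : Perm {y // ¬ p y}) * v = v * u
    rw [← hu, ← hv, ← map_mul, ← map_mul, hA.is_comm.comm]
  · obtain ⟨u', hu⟩ := u.2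
    obtain ⟨v', hv⟩ := v.2
    show (u : Perm {y // ¬ p y}) * v = v * u
    rw [← hu, ← hv, ← map_mul, ← map_mul, hA.is_comm.comm]
  · have hinj : Set.InjOn R (stabilizer A x : Set A) := fun g hg h hh e => by
      refine Subtype.ext (Equiv.ext fun y => ?_)
      by_cases hy : p y
      · rw [hfix g hg y hy, hfix h hh y hy]
      · exact congrArg Subtype.val (Equiv.ext_iff.1 e ⟨y, hy⟩)
    have hcard : Nat.card B = Nat.card (stabilizer A x) := by
      rw [hB]
      exact (Nat.card_congr (Equiv.Set.imageOfInjOn R _ hinj)).symm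
    rw [hcard, ← Subgroup.index_mul_card (stabilizer A x), index_stabilizer,
      ← Nat.card_coe_set_eq]
    congr 1
    exact (Nat.card_eq_fintype_card (α := {y // p y}))
  · rintro heven _ ⟨g, hg, rfl⟩
    rw [Equiv.Perm.mem_alternatingGroup]
    show sign ((g : Perm α).subtypePerm fun y => not_congr (hinv g y)) = 1
    rw [sign_subtypePerm]
    · exact Equiv.Perm.mem_alternatingGroup.1 (heven g.2)
    · exact fun y hy hp => hy (hfix g hg y hp)
  · intro heven h2
    refine Nat.card_le_card_of_injective R.rangeRestrict ?_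
    rw [injective_iff_map_eq_one]
    intro g hg
    have hout : ∀ y, ¬ p y → (g : Perm α) y = y := fun y hy =>
      congrArg Subtype.val (Equiv.ext_iff.1 (congrArg Subtype.val hg) ⟨y, hy⟩)
    by_cases hgx : g • x = x
    · refine Subtype.ext (Equiv.ext fun y => ?_)
      by_cases hy : p y
      · exact hfix g hgx y hy
      · exact hout y hy
    exfalso
    have hne : (g : Perm α) x ≠ x := hgx
    have hsupp : (g : Perm α).support.card = 2 := by
      refine le_antisymm ?_ (two_le_card_support_of_ne_one fun e => hne (by rw [e]; rfl))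
      calc (g : Perm α).support.card ≤ (Finset.univ.filter p).card := by
            refine Finset.card_le_card fun y hy => ?_
            rw [mem_support] at hy
            exact Finset.mem_filter.2 ⟨Finset.mem_univ _, by_contra fun h => hy (hout y h)⟩
        _ = 2 := by rw [← Fintype.card_subtype]; exact h2
    have hsw : (g : Perm α).IsSwap := card_support_eq_two.1 hsupp
    have := Equiv.Perm.mem_alternatingGroup.1 (heven g.2)
    rw [hsw.sign_eq] at this
    exact absurd this (by decide)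

theorem card_le {α : Type*} [Fintype α] [DecidableEq α] (A : Subgroup (Perm α))
    (hA : IsMulCommutative A) : Nat.card A ≤ mx (Fintype.card α) := by
  induction hn : Fintype.card α using Nat.strong_induction_on generalizing α with
  | _ n ih =>
    rcases isEmpty_or_nonempty α with h | ⟨⟨x⟩⟩
    · have : Subsingleton A := ⟨fun g h' => Subtype.ext (Equiv.ext fun y => h.elim y)⟩
      rw [Nat.card_of_subsingleton (1 : A), ← hn, Fintype.card_eq_zero]
      rfl
    obtain ⟨p, hp, B, C, hB, -, hm, hcard, -⟩ := exists_split A hA x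
    have hsum : Fintype.card {y // p y} + Fintype.card {y // ¬ p y} = n := by
      rw [Fintype.card_subtype_compl, ← hn]
      have := Fintype.card_subtype_le p
      omega
    rw [hcard]
    refine (Nat.mul_le_mul_left _ (ih _ (by omega) B hB rfl)).trans ?_
    refine (mul_mx _ _ hm).trans (le_of_eq ?_)
    rw [hsum]

theorem card_le_alt {α : Type*} [Fintype α] [DecidableEq α] (A : Subgroup (Perm α))
    (hA : IsMulCommutative A) (heven : A ≤ alternatingGroup α) :
    Nat.card A ≤ mxAlt (Fintype.card α) := by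
  induction hn : Fintype.card α using Nat.strong_induction_on generalizing α with
  | _ n ih =>
    rcases isEmpty_or_nonempty α with h | ⟨⟨x⟩⟩
    · have : Subsingleton A := ⟨fun g h' => Subtype.ext (Equiv.ext fun y => h.elim y)⟩
      rw [Nat.card_of_subsingleton (1 : A), ← hn, Fintype.card_eq_zero]
      rfl
    obtain ⟨p, hp, B, C, hB, hC, hm, hcard, hBe, hC2⟩ := exists_split A hA x
    have hsum : Fintype.card {y // p y} + Fintype.card {y // ¬ p y} = n := by
      rw [Fintype.card_subtype_compl, ← hn]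
      have := Fintype.card_subtype_le p
      omega
    by_cases h2 : Fintype.card {y // p y} = 2
    · refine (hC2 heven h2).trans ((card_le C hC).trans ?_)
      refine (mx_le_mxAlt _).trans (le_of_eq ?_)
      rw [show Fintype.card {y // ¬ p y} + 2 = n by omega]
    rw [hcard]
    refine (Nat.mul_le_mul_left _ (ih _ (by omega) B hB (hBe heven) rfl)).trans ?_
    refine (mul_mxAlt _ _ hm h2).trans (le_of_eq ?_)
    rw [hsum]

/-- An abelian group of order `c` of permutations of `Fin n`, even if `e`. -/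
def Has (e : Bool) (n c : ℕ) : Prop :=
  ∃ A : Subgroup (Perm (Fin n)), IsMulCommutative A ∧ Nat.card A = c ∧
    (e = true → A ≤ alternatingGroup (Fin n))

theorem Has.add {e : Bool} {m n c d : ℕ} (h₁ : Has e m c) (h₂ : Has e n d) :
    Has e (m + n) (c * d) := by
  classical
  obtain ⟨A, hA, hc, hAe⟩ := h₁
  obtain ⟨B, hB, hd, hBe⟩ := h₂
  let f : A × B →* Perm (Fin (m + n)) :=
    (finSumFinEquiv (m := m) (n := n)).permCongrHom.toMonoidHom.comp
      ((sumCongrHom (Fin m) (Fin n)).comp (A.subtype.prodMap B.subtype))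
  have hf : Function.Injective f :=
    (finSumFinEquiv (m := m) (n := n)).permCongrHom.injective.comp
      (sumCongrHom_injective.comp (Subtype.val_injective.prodMap Subtype.val_injective))
  refine ⟨f.range, ⟨⟨fun u v => Subtype.ext ?_⟩⟩, ?_, fun he => ?_⟩
  · obtain ⟨u', hu⟩ := u.2
    obtain ⟨v', hv⟩ := v.2
    show (u : Perm (Fin (m + n))) * v = v * u
    rw [← hu, ← hv, ← map_mul, ← map_mul,
      show u' * v' = v' * u' from Prod.ext (hA.is_comm.comm _ _) (hB.is_comm.comm _ _)]
  · rw [← Nat.card_congr (MonoidHom.ofInjective hf).toEquiv, Nat.card_prod, hc, hd]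
  · rintro _ ⟨⟨a, b⟩, rfl⟩
    rw [Equiv.Perm.mem_alternatingGroup]
    show sign ((finSumFinEquiv (m := m) (n := n)).permCongr (Perm.sumCongr (a : Perm (Fin m)) (b : Perm (Fin n)))) = 1
    rw [sign_permCongr, sign_sumCongr, Equiv.Perm.mem_alternatingGroup.1 (hAe he a.2),
      Equiv.Perm.mem_alternatingGroup.1 (hBe he b.2), mul_one]

theorem has_zero (e : Bool) : Has e 0 1 :=
  ⟨⊥, inferInstance, Subgroup.card_bot, fun _ => bot_le⟩

theorem has_one (e : Bool) : Has e 1 1 :=
  ⟨⊥, inferInstance, Subgroup.card_bot, fun _ => bot_le⟩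

theorem has_two : Has false 2 2 := by
  refine ⟨Subgroup.zpowers (swap 0 1), inferInstance, ?_, fun h => absurd h (by decide)⟩
  rw [Nat.card_zpowers, orderOf_eq_prime (p := 2)] <;> decide

theorem has_three (e : Bool) : Has e 3 3 := by
  haveI : Fact (Nat.Prime 3) := ⟨Nat.prime_three⟩
  refine ⟨Subgroup.zpowers (swap 0 1 * swap 1 2), inferInstance, ?_, fun _ => ?_⟩
  · rw [Nat.card_zpowers, orderOf_eq_prime (p := 3)] <;> decide
  · rw [Subgroup.zpowers_le, Equiv.Perm.mem_alternatingGroup]; decide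

/-- The four group. -/
def four : Subgroup (Perm (Fin 4)) where
  carrier := {g | g = 1 ∨ g = swap 0 1 * swap 2 3 ∨ g = swap 0 2 * swap 1 3 ∨ g = swap 0 3 * swap 1 2}
  one_mem' := Or.inl rfl
  mul_mem' := by
    rintro a b (rfl | rfl | rfl | rfl) (rfl | rfl | rfl | rfl) <;> decide
  inv_mem' := by
    rintro a (rfl | rfl | rfl | rfl) <;> decide

theorem mem_four {g : Perm (Fin 4)} : g ∈ four ↔
    g = 1 ∨ g = swap 0 1 * swap 2 3 ∨ g = swap 0 2 * swap 1 3 ∨ g = swap 0 3 * swap 1 2 := Iff.rfl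

theorem has_four (e : Bool) : Has e 4 4 := by
  refine ⟨four, ⟨⟨?_⟩⟩, ?_, fun _ g hg => ?_⟩
  · rintro ⟨a, ha⟩ ⟨b, hb⟩
    refine Subtype.ext (show a * b = b * a from ?_)
    rcases mem_four.1 ha with rfl | rfl | rfl | rfl <;>
      rcases mem_four.1 hb with rfl | rfl | rfl | rfl <;> decide
  · rw [Nat.card_congr (Equiv.subtypeEquivRight (q := fun g => g ∈
      ({1, swap 0 1 * swap 2 3, swap 0 2 * swap 1 3, swap 0 3 * swap 1 2} : Finset (Perm (Fin 4))))
      fun g => by rw [mem_four]; simp), Nat.card_eq_fintype_card, Fintype.card_coe]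
    decide
  · rw [Equiv.Perm.mem_alternatingGroup]
    rcases mem_four.1 hg with rfl | rfl | rfl | rfl <;> decide

theorem has_threes (e : Bool) : ∀ {n c : ℕ}, Has e n c → ∀ k : ℕ, Has e (3 * k + n) (3 ^ k * c)
  | n, c, h, 0 => by simpa using h
  | n, c, h, k + 1 => by
    have := (has_three e).add (has_threes e h k)
    rwa [show 3 + (3 * k + n) = 3 * (k + 1) + n by ring,
      show 3 * (3 ^ k * c) = 3 ^ (k + 1) * c by ring] at this

theorem Has.exists_alt {n c : ℕ} (h : Has true n c) :
    ∃ A : Subgroup (alternatingGroup (Fin n)), IsMulCommutative A ∧ Nat.card A = c := by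
  obtain ⟨A, hA, hc, hAe⟩ := h
  refine ⟨A.subgroupOf (alternatingGroup (Fin n)), ⟨⟨fun u v => Subtype.ext (Subtype.ext ?_)⟩⟩, ?_⟩
  · exact congrArg (fun w : A => (w : Perm (Fin n))) (hA.is_comm.comm ⟨((u : alternatingGroup (Fin n)) : Perm (Fin n)), u.2⟩ ⟨((v : alternatingGroup (Fin n)) : Perm (Fin n)), v.2⟩)
  · rw [← hc]; exact Nat.card_congr (Subgroup.subgroupOfEquivOfLe (hAe rfl)).toEquiv

theorem card_le_of_alt {n : ℕ} (A : Subgroup (alternatingGroup (Fin n))) (hA : IsMulCommutative A) :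
    Nat.card A ≤ mxAlt n := by
  have h := card_le_alt (A.map (alternatingGroup (Fin n)).subtype) inferInstance
    (Subgroup.map_subtype_le A)
  rwa [Subgroup.card_map_of_injective (Subgroup.subtype_injective _), Fintype.card_fin] at h

end Cfsg.Agent.PermGroups.MaxAbelian
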