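import Mathlib
import Cfsg.Agent.PermGroups.MaxAbelian

/-! Conjugacy of the abelian subgroups of largest order of the alternating groups. -/

set_option autoImplicit false

namespace Cfsg.Agent.PermGroups.MaxAbelian

open Equiv Equiv.Perm MulAction

theorem mxAlt_pos : ∀ n : ℕ, 0 < mxAlt n
  | 0 | 1 | 2 | 3 | 4 | 5 | 6 | 7 | 8 => by decide
  | n + 9 => by rw [mxAlt]; exact Nat.mul_pos (by norm_num) (mxAlt_pos (n + 6))

theorem mxAlt_step (s : ℕ) (hs : 6 ≤ s) : mxAlt (s + 3) = 3 * mxAlt s := by
  obtain ⟨t, rfl⟩ := Nat.exists_eq_add_of_le' hs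
  rfl

theorem mx_lt_mxAlt : ∀ r : ℕ, 4 ≤ r → mx r < mxAlt (r + 2) := by
  intro r
  induction r using Nat.strong_induction_on with
  | _ r ih =>
    intro h4
    by_cases hr : 9 ≤ r
    · obtain ⟨s, rfl⟩ := Nat.exists_eq_add_of_le' hr
      calc mx (s + 9) = 3 * mx (s + 6) := by rw [mx]
        _ < 3 * mxAlt (s + 6 + 2) := Nat.mul_lt_mul_of_pos_left (ih _ (by omega) (by omega)) (by norm_num)
        _ ≤ mxAlt (s + 6 + 2 + 3) := three_mul_mxAlt _
    · have h : ∀ r < 9, 4 ≤ r → mx r < mxAlt (r + 2) := by decide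
      exact h r (by omega) h4

theorem three_dvd_mxAlt : ∀ n : ℕ, (n = 3 ∨ 6 ≤ n ∧ n ≠ 8) → 3 ∣ mxAlt n := by
  intro n hn
  by_cases h9 : 9 ≤ n
  · obtain ⟨s, rfl⟩ := Nat.exists_eq_add_of_le' h9
    rw [mxAlt]; exact dvd_mul_right 3 _
  · have h : ∀ n < 9, (n = 3 ∨ 6 ≤ n ∧ n ≠ 8) → 3 ∣ mxAlt n := by decide
    exact h n (by omega) hn

theorem eq_case : ∀ r m : ℕ, 1 ≤ m → m ≠ 2 → m * mxAlt r = mxAlt (m + r) →
    ((m + r = 4 ∨ m + r = 8) → m = 4) ∧ ((m + r = 3 ∨ 6 ≤ m + r) → m = 3 ∨ m = 4) := by
  intro r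
  induction r using Nat.strong_induction_on with
  | _ r ih =>
    intro m h1 h2 he
    by_cases h9 : 9 ≤ m
    · exfalso
      have hlt : m * mxAlt r < mxAlt (m + r) :=
        calc m * mxAlt r < 3 * (m - 3) * mxAlt r := Nat.mul_lt_mul_of_pos_right (by omega) (mxAlt_pos r)
          _ = 3 * ((m - 3) * mxAlt r) := Nat.mul_assoc _ _ _
          _ ≤ 3 * mxAlt (m - 3 + r) := Nat.mul_le_mul_left _ (mul_mxAlt _ _ (by omega) (by omega))
          _ ≤ mxAlt (m - 3 + r + 3) := three_mul_mxAlt _
          _ = mxAlt (m + r) := by congr 1; omega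
      omega
    · by_cases hr : 9 ≤ r
      · have h' : m * mxAlt (r - 3) = mxAlt (m + (r - 3)) := by
          rw [show r = r - 3 + 3 by omega, mxAlt_step _ (by omega),
            show m + (r - 3 + 3) = m + (r - 3) + 3 by omega, mxAlt_step _ (by omega)] at he
          refine Nat.eq_of_mul_eq_mul_left (show 0 < 3 by norm_num) ?_
          rw [← he]; ring
        obtain ⟨-, h⟩ := ih (r - 3) (by omega) m h1 h2 h'
        exact ⟨fun hc => by omega, fun _ => h (Or.inr (by omega))⟩
      · have h : ∀ m < 9, ∀ r < 9, ¬ (1 ≤ m ∧ m ≠ 2 ∧ m * mxAlt r = mxAlt (m + r)) ∨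
            (¬ (m + r = 4 ∨ m + r = 8) ∨ m = 4) ∧ (¬ (m + r = 3 ∨ 6 ≤ m + r) ∨ m = 3 ∨ m = 4) := by
          decide
        have h' := (h m (by omega) r (by omega)).resolve_left (not_not_intro ⟨h1, h2, he⟩)
        exact ⟨fun hc => h'.1.resolve_left (not_not_intro hc), fun hc => h'.2.resolve_left (not_not_intro hc)⟩

variable {α : Type*} [Fintype α] [DecidableEq α]

/-- Restriction of an invariant set. -/
def resHom (A : Subgroup (Perm α)) (q : α → Prop) (hq : ∀ g : A, ∀ y, q ((g : Perm α) y) ↔ q y) :
    A →* Perm {y // q y} where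
  toFun g := (g : Perm α).subtypePerm fun y => hq g y
  map_one' := by ext; simp
  map_mul' g h := Equiv.ext fun y => Subtype.ext rfl

theorem fix_orbit {A : Subgroup (Perm α)} (hA : IsMulCommutative A) {g : A} {x y : α}
    (hy : y ∈ orbit A x) (hg : g • x = x) : g • y = y := by
  obtain ⟨h, rfl⟩ := hy
  show g • h • x = h • x
  rw [← mul_smul, hA.is_comm.comm g h, mul_smul, hg]

/-- An abelian group of even permutations of the largest possible order. -/
def Max (A : Subgroup (Perm α)) : Prop :=
  IsMulCommutative A ∧ A ≤ alternatingGroup α ∧ Nat.card A = mxAlt (Fintype.card α)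

section Split

variable (A : Subgroup (Perm α)) (x : α) [DecidablePred (· ∈ orbit A x)]

theorem inv_orbit (g : A) (y : α) : (g : Perm α) y ∈ orbit A x ↔ y ∈ orbit A x := by
  show g • y ∈ orbit A x ↔ y ∈ orbit A x
  rw [← orbit_eq_iff, ← orbit_eq_iff, orbit_smul]

/-- Restriction to the orbit. -/
def inHom : A →* Perm {y // y ∈ orbit A x} := resHom A _ (inv_orbit A x)

/-- Restriction to the rest. -/
def outHom : A →* Perm {y // ¬ y ∈ orbit A x} :=
  resHom A _ fun g y => not_congr (inv_orbit A x g y)

theorem recon (g : A) : Perm.subtypeCongr (inHom A x g) (outHom A x g) = (g : Perm α) := by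
  refine Equiv.ext fun y => ?_
  by_cases hy : y ∈ orbit A x
  · rw [Perm.subtypeCongr.left_apply _ _ hy]; rfl
  · rw [Perm.subtypeCongr.right_apply _ _ hy]; rfl

theorem sign_split (g : A) : sign (g : Perm α) = sign (inHom A x g) * sign (outHom A x g) := by
  conv_lhs => rw [← recon A x g]
  exact sign_subtypeCongr _ _

theorem card_inHom_le (hA : IsMulCommutative A) :
    Nat.card (inHom A x).range ≤ Nat.card {y // y ∈ orbit A x} := by
  refine Nat.card_le_card_of_injective
    (fun h : (inHom A x).range => (h : Perm {y // y ∈ orbit A x}) ⟨x, mem_orbit_self x⟩) ?_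
  rintro ⟨_, u, rfl⟩ ⟨_, v, rfl⟩ h
  have h' : (u : Perm α) x = (v : Perm α) x := congrArg Subtype.val h
  have hfix : (v⁻¹ * u) • x = x := by
    rw [mul_smul, inv_smul_eq_iff]; exact h'
  refine Subtype.ext (Equiv.ext fun y => Subtype.ext ?_)
  show (u : Perm α) y.1 = (v : Perm α) y.1
  have h2 := fix_orbit hA y.2 hfix
  rw [mul_smul, inv_smul_eq_iff] at h2
  exact h2

theorem card_le_split :
    Nat.card A ≤ Nat.card (inHom A x).range * Nat.card (outHom A x).range := by
  rw [← Nat.card_prod]
  refine Nat.card_le_card_of_injective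
    (fun g => (((inHom A x).rangeRestrict g), ((outHom A x).rangeRestrict g))) fun g h e => Subtype.ext ?_
  rw [Prod.mk.injEq] at e
  rw [← recon A x g, ← recon A x h]
  exact congrArg₂ Perm.subtypeCongr (congrArg Subtype.val e.1) (congrArg Subtype.val e.2)

theorem card_stab (hA : IsMulCommutative A) :
    Nat.card A = Nat.card {y // y ∈ orbit A x} * Nat.card ((stabilizer A x).map (outHom A x)) := by
  have hcard : Nat.card ((stabilizer A x).map (outHom A x)) = Nat.card (stabilizer A x) := by
    have hinj : Set.InjOn (outHom A x) (stabilizer A x : Set A) := fun g hg h hh e => by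
      refine Subtype.ext (Equiv.ext fun y => ?_)
      by_cases hy : y ∈ orbit A x
      · exact (fix_orbit hA hy hg).trans (fix_orbit hA hy hh).symm
      · exact congrArg Subtype.val (Equiv.ext_iff.1 e ⟨y, hy⟩)
    exact (Nat.card_congr (Equiv.Set.imageOfInjOn _ _ hinj)).symm
  rw [hcard, ← Subgroup.index_mul_card (stabilizer A x), index_stabilizer, ← Nat.card_coe_set_eq]

theorem inHom_eq_one (hA : IsMulCommutative A) {g : A} {y : α} (hy : y ∈ orbit A x) (hg : g • y = y) :
    inHom A x g = 1 :=
  Equiv.ext fun z => Subtype.ext (fix_orbit hA ((orbit_eq_iff.2 hy).ge z.2) hg)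

theorem stab_even (hA : IsMulCommutative A) (he : A ≤ alternatingGroup α) :
    (stabilizer A x).map (outHom A x) ≤ alternatingGroup _ := by
  rintro _ ⟨g, hg, rfl⟩
  have h := sign_split A x g
  rw [inHom_eq_one A x hA (mem_orbit_self x) hg, map_one, one_mul,
    Perm.mem_alternatingGroup.1 (he g.2)] at h
  exact Perm.mem_alternatingGroup.2 h.symm

omit [Fintype α] [DecidableEq α] in
theorem range_comm {β : Type*} [Group β] {A : Subgroup (Perm α)} (hA : IsMulCommutative A) (f : A →* β) :
    IsMulCommutative f.range := by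
  refine ⟨⟨fun u v => Subtype.ext ?_⟩⟩
  obtain ⟨u', hu⟩ := u.2
  obtain ⟨v', hv⟩ := v.2
  show (u : β) * v = v * u
  rw [← hu, ← hv, ← map_mul, ← map_mul, hA.is_comm.comm]

/-- The possible orbit lengths. -/
theorem orbit_card (hA : Max A) :
    ((Fintype.card α = 4 ∨ Fintype.card α = 8) → Nat.card {y // y ∈ orbit A x} = 4) ∧
    ((Fintype.card α = 3 ∨ 6 ≤ Fintype.card α) →
      Nat.card {y // y ∈ orbit A x} = 3 ∨ Nat.card {y // y ∈ orbit A x} = 4) := by
  classical
  obtain ⟨hc, he, hcard⟩ := hA
  set m := Nat.card {y // y ∈ orbit A x} with hm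
  set r := Fintype.card {y // ¬ y ∈ orbit A x} with hr
  have hmr : m + r = Fintype.card α := by
    rw [hm, hr, Nat.card_eq_fintype_card, ← Fintype.card_sum]
    exact Fintype.card_congr (Equiv.sumCompl _)
  by_cases hn : (Fintype.card α = 3 ∨ Fintype.card α = 4 ∨ 6 ≤ Fintype.card α)
  swap
  · constructor <;> intro h <;> omega
  have hm1 : 1 ≤ m := by
    rw [hm]; exact Nat.card_pos_iff.2 ⟨⟨⟨x, mem_orbit_self x⟩⟩, inferInstance⟩
  have hm2 : m ≠ 2 := by
    intro h2
    have hinj : Function.Injective (outHom A x).rangeRestrict := by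
      rw [injective_iff_map_eq_one]
      intro g hg
      have hout : outHom A x g = 1 := congrArg Subtype.val hg
      have hsgn := sign_split A x g
      rw [hout, map_one, mul_one, Perm.mem_alternatingGroup.1 (he g.2)] at hsgn
      have hin : inHom A x g = 1 := by
        by_contra hne
        have hs : (inHom A x g).support.card = 2 := le_antisymm
          ((Finset.card_le_univ _).trans (le_of_eq (by rw [← Nat.card_eq_fintype_card]; exact h2)))
          (two_le_card_support_of_ne_one hne)
        rw [(card_support_eq_two.1 hs).sign_eq] at hsgn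
        exact absurd hsgn (by decide)
      exact Subtype.ext (by rw [← recon A x g, hin, hout]; exact Perm.subtypeCongr.refl)
    have h := (Nat.card_le_card_of_injective _ hinj).trans (card_le _ (range_comm hc _))
    rw [hcard, ← hr] at h
    rcases hn with h3 | h4 | h6
    · rw [h3, show r = 1 by omega] at h; exact absurd h (by decide)
    · rw [h4, show r = 2 by omega] at h; exact absurd h (by decide)
    · rw [show Fintype.card α = r + 2 by omega] at h
      exact absurd h (not_le.2 (mx_lt_mxAlt r (by omega)))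
  have hle : Nat.card A ≤ m * mxAlt r := by
    rw [card_stab A x hc]
    exact Nat.mul_le_mul_left _ (card_le_alt _ (inferInstanceAs (IsMulCommutative _))
      (stab_even A x hc he))
  have heq : m * mxAlt r = mxAlt (m + r) := by
    refine le_antisymm (mul_mxAlt m r hm1 hm2) ?_
    rw [hmr, ← hcard]; exact hle
  have h := eq_case r m hm1 hm2 heq
  rw [hmr] at h
  exact h

end Split

/-- In degree 3 and in degrees at least 6, other than 8, there is an orbit of length 3. -/
theorem exists_three {A : Subgroup (Perm α)} (hA : Max A)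
    (hn : Fintype.card α = 3 ∨ 6 ≤ Fintype.card α ∧ Fintype.card α ≠ 8) :
    ∃ x : α, Nat.card {y // y ∈ orbit A x} = 3 := by
  classical
  haveI : Fact (Nat.Prime 3) := ⟨Nat.prime_three⟩
  obtain ⟨g, hg⟩ := exists_prime_orderOf_dvd_card' (G := A) 3 (hA.2.2 ▸ three_dvd_mxAlt _ hn)
  obtain ⟨x, hx⟩ : ∃ x : α, g • x ≠ x := by
    by_contra h
    push_neg at h
    have h1 : g = 1 := Subtype.ext (Equiv.ext fun y => h y)
    rw [h1, orderOf_one] at hg
    omega
  refine ⟨x, ((orbit_card A x hA).2 (by omega)).resolve_right fun h4 => ?_⟩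
  haveI : (stabilizer A x).Normal := ⟨fun s hs u => by
    rw [hA.1.is_comm.comm u s, mul_inv_cancel_right]; exact hs⟩
  have hq : orderOf (QuotientGroup.mk' (stabilizer A x) g) = 3 :=
    orderOf_eq_prime (by rw [← map_pow, ← hg, pow_orderOf_eq_one, map_one])
      fun h => hx ((QuotientGroup.eq_one_iff g).1 h)
  have hd := orderOf_dvd_natCard (QuotientGroup.mk' (stabilizer A x) g)
  rw [hq, ← Subgroup.index_eq_card, index_stabilizer, ← Nat.card_coe_set_eq] at hd
  have : 3 ∣ 4 := h4 ▸ hd
  omega

/-- Embedding along a decomposition of the point set. -/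
def blockHom {n m r : ℕ} (e : Fin m ⊕ Fin r ≃ Fin n) : Perm (Fin m) × Perm (Fin r) →* Perm (Fin n) :=
  e.permCongrHom.toMonoidHom.comp (sumCongrHom (Fin m) (Fin r))

theorem blockHom_injective {n m r : ℕ} (e : Fin m ⊕ Fin r ≃ Fin n) : Function.Injective (blockHom e) :=
  e.permCongrHom.injective.comp sumCongrHom_injective

theorem sign_blockHom {n m r : ℕ} (e : Fin m ⊕ Fin r ≃ Fin n) (u : Perm (Fin m)) (v : Perm (Fin r)) :
    sign (blockHom e (u, v)) = sign u * sign v := by
  show sign (e.permCongr (Perm.sumCongr u v)) = _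
  rw [sign_permCongr, sign_sumCongr]

theorem structure_of_orbit {n m r : ℕ} {A : Subgroup (Perm (Fin n))} (hA : Max A) (x : Fin n)
    (hx : Nat.card {y // y ∈ orbit A x} = m) (hr : r + m = n) (hm : m = 3 ∨ m = 4 ∧ (n = 4 ∨ n = 8))
    (D0 : Subgroup (Perm (Fin m)))
    (hD0 : ∀ D : Subgroup (Perm (Fin m)), IsMulCommutative D → D ≤ alternatingGroup (Fin m) →
      Nat.card D = m → D = D0) :
    ∃ (e : Fin m ⊕ Fin r ≃ Fin n) (C : Subgroup (Perm (Fin r))),
      Max C ∧ A = (D0.prod C).map (blockHom e) := by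
  classical
  obtain ⟨hc, he, hcard⟩ := hA
  let L := inHom A x
  let R := outHom A x
  have hrc : Fintype.card {y // ¬ y ∈ orbit A x} = r := by
    rw [Fintype.card_subtype_compl, ← Nat.card_eq_fintype_card (α := {y // y ∈ orbit A x}), hx,
      Fintype.card_fin]
    omega
  have hmc : Fintype.card {y // y ∈ orbit A x} = m := by rw [← Nat.card_eq_fintype_card, hx]
  -- the two parts are even
  have hev : ∀ g : A, sign (L g) = 1 ∧ sign (R g) = 1 := by
    have key : ∀ g : A, sign (L g) = 1 → sign (R g) = 1 := fun g h => by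
      have h' := sign_split A x g
      rw [Perm.mem_alternatingGroup.1 (he g.2)] at h'
      rw [show inHom A x g = L g from rfl, h, one_mul] at h'
      exact h'.symm
    have key' : ∀ g : A, sign (R g) = 1 → sign (L g) = 1 := fun g h => by
      have h' := sign_split A x g
      rw [Perm.mem_alternatingGroup.1 (he g.2)] at h'
      rw [show outHom A x g = R g from rfl, h, mul_one] at h'
      exact h'.symm
    rcases hm with h3 | ⟨h4, h48⟩
    · have hL : ∀ g : A, sign (L g) = 1 := fun g => by
        by_cases hf : ∃ y, y ∈ orbit A x ∧ g • y = y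
        · obtain ⟨y, hy, hgy⟩ := hf
          rw [show L g = 1 from inHom_eq_one A x hc hy hgy, map_one]
        · push_neg at hf
          have hs : (L g).support = Finset.univ := by
            refine Finset.eq_univ_of_forall fun y => ?_
            rw [Perm.mem_support]
            exact fun h => hf y.1 y.2 (congrArg Subtype.val h)
          have h3' : (L g).IsThreeCycle := card_support_eq_three_iff.1 (by
            rw [hs, Finset.card_univ, hmc, h3])
          exact h3'.sign
      exact fun g => ⟨hL g, key g (hL g)⟩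
    · have hR : ∀ g : A, sign (R g) = 1 := by
        rcases h48 with hn4 | hn8
        · intro g
          haveI : Subsingleton {y // ¬ y ∈ orbit A x} :=
            Fintype.card_le_one_iff_subsingleton.1 (by rw [hrc]; omega)
          rw [show R g = 1 from Equiv.ext fun y => Subsingleton.elim _ _, map_one]
        · have hy : ∃ y : Fin n, y ∉ orbit A x := by
            obtain ⟨y⟩ := Fintype.card_pos_iff.1 (show 0 < Fintype.card {y // ¬ y ∈ orbit A x} by omega)
            exact ⟨y.1, y.2⟩
          obtain ⟨y, hy⟩ := hy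
          have hy4 : Nat.card {z // z ∈ orbit A y} = 4 :=
            (orbit_card A y ⟨hc, he, hcard⟩).1 (Or.inr (by rw [Fintype.card_fin, hn8]))
          have hsub : ∀ z, z ∈ orbit A y → z ∉ orbit A x := fun z hz hzx =>
            hy (orbit_eq_iff.1 ((orbit_eq_iff.2 hz).symm.trans (orbit_eq_iff.2 hzx)))
          have hall : ∀ z, z ∉ orbit A x → z ∈ orbit A y := by
            have hbij : Function.Bijective (fun z : {z // z ∈ orbit A y} =>
                (⟨z.1, hsub z.1 z.2⟩ : {y // ¬ y ∈ orbit A x})) :=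
              (Fintype.bijective_iff_injective_and_card _).2 ⟨fun a b h => by
                have := congrArg Subtype.val h; exact Subtype.ext this,
                by rw [hrc, ← Nat.card_eq_fintype_card, hy4]; omega⟩
            intro z hz
            obtain ⟨w, hw⟩ := hbij.2 ⟨z, hz⟩
            rw [← show w.1 = z from congrArg Subtype.val hw]; exact w.2
          have hB : ((stabilizer A x).map R) = R.range := by
            refine Subgroup.eq_of_le_of_card_ge (MonoidHom.range_eq_map R ▸ Subgroup.map_mono le_top) ?_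
            have hB4 : Nat.card ((stabilizer A x).map R) = 4 := by
              have h := card_stab A x hc
              rw [hcard, Fintype.card_fin, hx] at h
              have h8 : mxAlt n = 16 := by rw [hn8]; rfl
              rw [h8] at h
              change 16 = m * Nat.card ((stabilizer A x).map R) at h
              rw [h4] at h
              omega
            rw [hB4, ← hy4]
            refine Nat.card_le_card_of_injective (fun h : R.range =>
              (⟨((h : Perm {y // ¬ y ∈ orbit A x}) ⟨y, hy⟩).1, hall _ ((h : Perm {y // ¬ y ∈ orbit A x}) ⟨y, hy⟩).2⟩ :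
                {z // z ∈ orbit A y})) ?_
            rintro ⟨_, u, rfl⟩ ⟨_, v, rfl⟩ h
            have h' : (u : Perm (Fin n)) y = (v : Perm (Fin n)) y := congrArg Subtype.val h
            have hfix : (v⁻¹ * u) • y = y := by rw [mul_smul, inv_smul_eq_iff]; exact h'
            refine Subtype.ext (Equiv.ext fun z => Subtype.ext ?_)
            show (u : Perm (Fin n)) z.1 = (v : Perm (Fin n)) z.1
            have h2 := fix_orbit hc (hall z.1 z.2) hfix
            rw [mul_smul, inv_smul_eq_iff] at h2
            exact h2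
          intro g
          have hg : R g ∈ (stabilizer A x).map R := hB ▸ ⟨g, rfl⟩
          exact Perm.mem_alternatingGroup.1 (stab_even A x hc he hg)
      exact fun g => ⟨key' g (hR g), hR g⟩
  -- counting
  have hLle : Nat.card L.range ≤ m := hx ▸ card_inHom_le A x hc
  have hRle : Nat.card R.range ≤ mxAlt r := by
    have h := card_le_alt R.range (range_comm hc R) (by
      rintro _ ⟨g, rfl⟩; exact Perm.mem_alternatingGroup.2 (hev g).2)
    rwa [hrc] at h
  have hm2 : 1 ≤ m ∧ m ≠ 2 := by omega
  have hbig : m * mxAlt r ≤ Nat.card L.range * Nat.card R.range :=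
    ((mul_mxAlt m r hm2.1 hm2.2).trans (le_of_eq (by rw [hcard, Fintype.card_fin]; congr 1; omega))).trans
      (card_le_split A x)
  have hLc : Nat.card L.range = m := by
    by_contra hne
    have hlt : Nat.card L.range < m := lt_of_le_of_ne hLle hne
    exact absurd hbig (not_le.2 (lt_of_le_of_lt (Nat.mul_le_mul_left _ hRle)
      (Nat.mul_lt_mul_of_pos_right hlt (mxAlt_pos r))))
  have hRc : Nat.card R.range = mxAlt r := by
    rw [hLc] at hbig
    exact le_antisymm hRle (Nat.le_of_mul_le_mul_left hbig hm2.1)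
  -- transport
  let eO : {y // y ∈ orbit A x} ≃ Fin m := Fintype.equivFinOfCardEq hmc
  let eR : {y // ¬ y ∈ orbit A x} ≃ Fin r := Fintype.equivFinOfCardEq hrc
  let e : Fin m ⊕ Fin r ≃ Fin n := (Equiv.sumCongr eO.symm eR.symm).trans (Equiv.sumCompl _)
  set D := L.range.map eO.permCongrHom.toMonoidHom with hD
  set C := R.range.map eR.permCongrHom.toMonoidHom with hC
  haveI := range_comm hc L
  haveI := range_comm hc R
  have hDD : D = D0 := by
    refine hD0 D (Subgroup.map_isMulCommutative _ _) ?_ ?_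
    · rintro _ ⟨_, ⟨g, rfl⟩, rfl⟩
      refine Perm.mem_alternatingGroup.2 ?_
      show sign (eO.permCongr (L g)) = 1
      rw [sign_permCongr, (hev g).1]
    · rw [hD, Subgroup.card_map_of_injective (MulEquiv.injective _), hLc]
  have hCM : Max C := by
    refine ⟨Subgroup.map_isMulCommutative _ _, ?_, ?_⟩
    · rintro _ ⟨_, ⟨g, rfl⟩, rfl⟩
      refine Perm.mem_alternatingGroup.2 ?_
      show sign (eR.permCongr (R g)) = 1
      rw [sign_permCongr, (hev g).2]
    · rw [hC, Subgroup.card_map_of_injective (MulEquiv.injective _), hRc, Fintype.card_fin]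
  refine ⟨e, C, hCM, Subgroup.eq_of_le_of_card_ge (fun g hg => ?_) ?_⟩
  · refine ⟨(eO.permCongr (L ⟨g, hg⟩), eR.permCongr (R ⟨g, hg⟩)), ⟨?_, ?_⟩, ?_⟩
    · rw [← hDD]; exact ⟨L ⟨g, hg⟩, ⟨_, rfl⟩, rfl⟩
    · exact ⟨R ⟨g, hg⟩, ⟨_, rfl⟩, rfl⟩
    · refine Equiv.ext fun y => ?_
      show e (Perm.sumCongr (eO.permCongr (L ⟨g, hg⟩)) (eR.permCongr (R ⟨g, hg⟩)) (e.symm y)) = g y
      by_cases hy : y ∈ orbit A x
      · have : e.symm y = Sum.inl (eO ⟨y, hy⟩) := by
          rw [Equiv.symm_apply_eq]; simp [e]
        rw [this]; simp [e, L, inHom, resHom]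
      · have : e.symm y = Sum.inr (eR ⟨y, hy⟩) := by
          rw [Equiv.symm_apply_eq]; simp [e]
        rw [this]; simp [e, R, outHom, resHom]
  · rw [Subgroup.card_map_of_injective (blockHom_injective e),
      Nat.card_congr (Subgroup.prodEquiv D0 C).toEquiv, Nat.card_prod, hCM.2.2, ← hDD, hD,
      Subgroup.card_map_of_injective (MulEquiv.injective _), hLc, Fintype.card_fin, hcard, Fintype.card_fin]
    exact (mul_mxAlt m r hm2.1 hm2.2).trans (le_of_eq (by congr 1; omega))

theorem alt_three (D : Subgroup (Perm (Fin 3))) (_ : IsMulCommutative D)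
    (h : D ≤ alternatingGroup (Fin 3)) (hc : Nat.card D = 3) : D = alternatingGroup (Fin 3) := by
  refine Subgroup.eq_of_le_of_card_ge h ?_
  rw [hc, Nat.card_eq_fintype_card]
  decide

set_option maxRecDepth 20000 in
theorem alt_four (D : Subgroup (Perm (Fin 4))) (_ : IsMulCommutative D)
    (h : D ≤ alternatingGroup (Fin 4)) (hc : Nat.card D = 4) : D = four := by
  refine Subgroup.eq_of_le_of_card_ge (fun g hg => ?_) ?_
  · have h4 : g ^ 4 = 1 := orderOf_dvd_iff_pow_eq_one.1 ((Subgroup.orderOf_dvd_natCard D hg).trans hc.dvd)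
    have hs : sign g = 1 := Perm.mem_alternatingGroup.1 (h hg)
    have key : ∀ g : Perm (Fin 4), g ^ 4 = 1 → sign g = 1 →
        g = 1 ∨ g = swap 0 1 * swap 2 3 ∨ g = swap 0 2 * swap 1 3 ∨ g = swap 0 3 * swap 1 2 := by decide
    exact key g h4 hs
  · rw [hc, Nat.card_congr (Equiv.subtypeEquivRight (q := fun g => g ∈
      ({1, swap 0 1 * swap 2 3, swap 0 2 * swap 1 3, swap 0 3 * swap 1 2} : Finset (Perm (Fin 4))))
      fun g => by rw [mem_four]; simp), Nat.card_eq_fintype_card, Fintype.card_coe]
    decide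

theorem card_four : Nat.card four = 4 := by
  rw [Nat.card_congr (Equiv.subtypeEquivRight (q := fun g => g ∈
      ({1, swap 0 1 * swap 2 3, swap 0 2 * swap 1 3, swap 0 3 * swap 1 2} : Finset (Perm (Fin 4))))
      fun g => by rw [mem_four]; simp), Nat.card_eq_fintype_card, Fintype.card_coe]
  decide

theorem conj_step {n m r : ℕ} (D0 : Subgroup (Perm (Fin m))) (hDc : IsMulCommutative D0)
    (hDe : D0 ≤ alternatingGroup (Fin m)) (hDm : Nat.card D0 = m)
    (hD0 : ∀ D : Subgroup (Perm (Fin m)), IsMulCommutative D → D ≤ alternatingGroup (Fin m) →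
      Nat.card D = m → D = D0) (hm : 2 ≤ m)
    (e e' : Fin m ⊕ Fin r ≃ Fin n) (C C' : Subgroup (Perm (Fin r))) (τ : Perm (Fin r))
    (hτ : C.map (MulAut.conj τ).toMonoidHom = C') :
    ∃ σ ∈ alternatingGroup (Fin n),
      ((D0.prod C).map (blockHom e)).map (MulAut.conj σ).toMonoidHom = (D0.prod C').map (blockHom e') := by
  let ρ : Perm (Fin n) := e.symm.trans e'
  have hρ : ∀ u, ρ * blockHom e u * ρ⁻¹ = blockHom e' u := fun u => by
    refine Equiv.ext fun y => ?_
    simp [ρ, blockHom]
  have key : ∀ u : Perm (Fin m), D0.map (MulAut.conj u).toMonoidHom = D0 →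
      ((D0.prod C).map (blockHom e)).map (MulAut.conj (ρ * blockHom e (u, τ))).toMonoidHom =
        (D0.prod C').map (blockHom e') := by
    intro u hu
    have hcomp : (MulAut.conj (ρ * blockHom e (u, τ))).toMonoidHom.comp (blockHom e) =
        (blockHom e').comp ((MulAut.conj u).toMonoidHom.prodMap (MulAut.conj τ).toMonoidHom) := by
      refine MonoidHom.ext fun w => ?_
      show ρ * blockHom e (u, τ) * blockHom e w * (ρ * blockHom e (u, τ))⁻¹ =
        blockHom e' (u * w.1 * u⁻¹, τ * w.2 * τ⁻¹)
      rw [← hρ, mul_inv_rev, show ((u * w.1 * u⁻¹, τ * w.2 * τ⁻¹) : Perm (Fin m) × Perm (Fin r)) =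
        (u, τ) * w * (u, τ)⁻¹ from rfl, map_mul, map_mul, map_inv]
      group
    rw [Subgroup.map_map, hcomp, ← Subgroup.map_map]
    congr 1
    ext w
    constructor
    · rintro ⟨v, hv, rfl⟩
      exact ⟨hu ▸ Subgroup.mem_map_of_mem _ hv.1, hτ ▸ Subgroup.mem_map_of_mem _ hv.2⟩
    · rintro ⟨h1, h2⟩
      rw [← hu] at h1
      rw [← hτ] at h2
      obtain ⟨a, ha, ha'⟩ := h1
      obtain ⟨b, hb, hb'⟩ := h2
      exact ⟨(a, b), ⟨ha, hb⟩, Prod.ext ha' hb'⟩
  have h1 : D0.map (MulAut.conj (1 : Perm (Fin m))).toMonoidHom = D0 := by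
    rw [map_one]; exact Subgroup.map_id D0
  rcases Int.units_eq_one_or (sign (ρ * blockHom e (1, τ))) with h | h
  · exact ⟨_, Perm.mem_alternatingGroup.2 h, key 1 h1⟩
  · set t : Perm (Fin m) := swap ⟨0, by omega⟩ ⟨1, by omega⟩ with ht
    have hts : sign t = -1 := Perm.sign_swap (by simp [Fin.ext_iff])
    refine ⟨_, Perm.mem_alternatingGroup.2 ?_, key t (hD0 _ (Subgroup.map_isMulCommutative _ _) ?_ ?_)⟩
    · rw [map_mul, sign_blockHom, hts]
      rw [map_mul, sign_blockHom, map_one, one_mul] at h
      rw [neg_one_mul, mul_neg, h, neg_neg]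
    · rintro _ ⟨g, hg, rfl⟩
      refine Perm.mem_alternatingGroup.2 ?_
      show sign (t * g * t⁻¹) = 1
      rw [map_mul, map_mul, map_inv, Perm.mem_alternatingGroup.1 (hDe hg), mul_one, mul_inv_cancel]
    · rw [Subgroup.card_map_of_injective (MulEquiv.injective _), hDm]

/-- The largest abelian groups of even permutations are conjugate. -/
theorem max_conj (n : ℕ) (hn : n ≠ 5) : ∀ A B : Subgroup (Perm (Fin n)), Max A → Max B →
    ∃ σ ∈ alternatingGroup (Fin n), A.map (MulAut.conj σ).toMonoidHom = B := by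
  induction n using Nat.strong_induction_on with
  | _ n ih =>
    intro A B hA hB
    by_cases hsmall : n ≤ 2
    · have hbot : ∀ A : Subgroup (Perm (Fin n)), Max A → A = ⊥ := fun A hA => by
        refine Subgroup.card_eq_one.1 ?_
        rw [hA.2.2, Fintype.card_fin]
        interval_cases n <;> rfl
      refine ⟨1, one_mem _, ?_⟩
      rw [hbot A hA, hbot B hB, Subgroup.map_bot]
    by_cases h3 : n = 3 ∨ 6 ≤ n ∧ n ≠ 8
    · obtain ⟨x, hx⟩ := exists_three hA (by rw [Fintype.card_fin]; exact h3)
      obtain ⟨y, hy⟩ := exists_three hB (by rw [Fintype.card_fin]; exact h3)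
      obtain ⟨e, C, hC, rfl⟩ := structure_of_orbit (r := n - 3) hA x hx (by omega) (Or.inl rfl) _ alt_three
      obtain ⟨e', C', hC', rfl⟩ := structure_of_orbit (r := n - 3) hB y hy (by omega) (Or.inl rfl) _ alt_three
      have hne : n - 3 ≠ 5 := by omega
      obtain ⟨τ, -, hτ⟩ := ih (n - 3) (by omega) hne C C' hC hC'
      refine conj_step (alternatingGroup (Fin 3)) ?_ le_rfl ?_ alt_three (by norm_num) e e' C C' τ hτ
      · exact ⟨⟨by decide⟩⟩
      · rw [Nat.card_eq_fintype_card]; decide
    · have h48 : n = 4 ∨ n = 8 := by omega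
      classical
      obtain ⟨x⟩ : Nonempty (Fin n) := ⟨⟨0, by omega⟩⟩
      have hxA := (orbit_card A x hA).1 (by rw [Fintype.card_fin]; exact h48)
      have hxA' : Nat.card {y // y ∈ orbit A x} = 4 := hxA
      have hxB : Nat.card {y // y ∈ orbit B x} = 4 := (orbit_card B x hB).1 (by rw [Fintype.card_fin]; exact h48)
      obtain ⟨e, C, hC, rfl⟩ := structure_of_orbit (r := n - 4) hA x hxA' (by omega) (Or.inr ⟨rfl, h48⟩) _ alt_four
      obtain ⟨e', C', hC', rfl⟩ := structure_of_orbit (r := n - 4) hB x hxB (by omega) (Or.inr ⟨rfl, h48⟩) _ alt_four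
      obtain ⟨τ, -, hτ⟩ := ih (n - 4) (by omega) (by omega) C C' hC hC'
      refine conj_step four ?_ ?_ card_four alt_four (by norm_num) e e' C C' τ hτ
      · refine ⟨⟨fun a b => Subtype.ext ?_⟩⟩
        show (a : Perm (Fin 4)) * b = b * a
        rcases mem_four.1 a.2 with h | h | h | h <;> rcases mem_four.1 b.2 with h' | h' | h' | h' <;>
          rw [h, h'] <;> decide
      · intro g hg
        rw [Perm.mem_alternatingGroup]
        rcases mem_four.1 hg with h | h | h | h <;> rw [h] <;> decide

theorem has_five : Has true 5 5 := by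
  haveI : Fact (Nat.Prime 5) := ⟨by norm_num⟩
  refine ⟨Subgroup.zpowers (finRotate 5), inferInstance, ?_, fun _ => ?_⟩
  · rw [Nat.card_zpowers, orderOf_eq_prime (p := 5)] <;> decide
  · rw [Subgroup.zpowers_le, Perm.mem_alternatingGroup]; decide

theorem has_mxAlt : ∀ n : ℕ, Has true n (mxAlt n) := by
  intro n
  induction n using Nat.strong_induction_on with
  | _ n ih =>
    by_cases h9 : 9 ≤ n
    · obtain ⟨s, rfl⟩ := Nat.exists_eq_add_of_le' h9
      have h := (has_three true).add (ih (s + 6) (by omega))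
      rw [show 3 + (s + 6) = s + 9 by ring] at h
      exact h
    · interval_cases n
      · exact has_zero true
      · exact has_one true
      · exact (has_one true).add (has_one true)
      · exact has_three true
      · exact has_four true
      · exact has_five
      · exact (has_three true).add (has_three true)
      · exact (has_three true).add (has_four true)
      · exact (has_four true).add (has_four true)

end Cfsg.Agent.PermGroups.MaxAbelian
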