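import Mathlib

/-!
# Odd order automorphisms of doubly transitive groups

If the image of a point stabiliser under an automorphism of odd order has an orbit of length `k`
coprime to the degree `n`, then `k = 1` or `k = n - 1`.
-/

set_option autoImplicit false

namespace Cfsg.Agent.OddAut

open Matrix MulAction

variable {G Ω : Type*} [Group G] [MulAction G Ω] [Fintype Ω]

/-- `M` intertwines the actions twisted by `f` and `f'`. -/
def Inv (f f' : MulAut G) (M : Matrix Ω Ω ℤ) : Prop :=
  ∀ (g : G) (x y : Ω), M (f g • x) (f' g • y) = M x y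

theorem Inv.mul {f f' f'' : MulAut G} {M M' : Matrix Ω Ω ℤ} (h : Inv f f' M) (h' : Inv f' f'' M') :
    Inv f f'' (M * M') := by
  intro g x y
  rw [Matrix.mul_apply, Matrix.mul_apply, ← Equiv.sum_comp (MulAction.toPerm (f' g))]
  refine Finset.sum_congr rfl fun z _ => ?_
  rw [MulAction.toPerm_apply, h g x z, h' g z y]

theorem Inv.transpose {f f' : MulAut G} {M : Matrix Ω Ω ℤ} (h : Inv f f' M) : Inv f' f Mᵀ :=
  fun g x y => h g y x

variable [DecidableEq Ω]

/-- The all-one matrix. -/
def allOne (Ω : Type*) : Matrix Ω Ω ℤ := Matrix.of fun _ _ => 1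

theorem allOne_mul_allOne : allOne Ω * allOne Ω = (Fintype.card Ω : ℤ) • allOne Ω := by
  ext x y
  simp [allOne, Matrix.mul_apply]

theorem form_apply (c d : ℤ) (x y : Ω) :
    (c • (1 : Matrix Ω Ω ℤ) + d • allOne Ω) x y = (if x = y then c else 0) + d := by
  rw [Matrix.add_apply, Matrix.smul_apply, Matrix.smul_apply, Matrix.one_apply]
  split_ifs <;> simp [allOne]

theorem scalar_form (h2 : IsMultiplyPretransitive G Ω 2) (hn : 1 < Fintype.card Ω) {M : Matrix Ω Ω ℤ}
    (hM : Inv (1 : MulAut G) 1 M) : ∃ c d : ℤ, M = c • (1 : Matrix Ω Ω ℤ) + d • allOne Ω := by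
  obtain ⟨x0, y0, h0⟩ := Fintype.exists_pair_of_one_lt_card hn
  rw [MulAction.is_two_pretransitive_iff] at h2
  refine ⟨M x0 x0 - M x0 y0, M x0 y0, ?_⟩
  ext x y
  by_cases hxy : x = y
  · subst hxy
    obtain ⟨z, hz⟩ : ∃ z, x ≠ z := by
      rcases eq_or_ne x x0 with h | h
      · exact ⟨y0, h ▸ h0⟩
      · exact ⟨x0, h⟩
    obtain ⟨g, hgx, -⟩ := h2 h0 hz
    have := hM g x0 x0
    simp only [MulAut.one_apply, hgx] at this
    rw [this, form_apply, if_pos rfl]
    ring
  · obtain ⟨g, hgx, hgy⟩ := h2 h0 hxy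
    have := hM g x0 y0
    simp only [MulAut.one_apply, hgx, hgy] at this
    rw [this, form_apply, if_neg hxy, zero_add]

theorem coeff_eq (hn : 1 < Fintype.card Ω) {c d c' d' : ℤ}
    (h : c • (1 : Matrix Ω Ω ℤ) + d • allOne Ω = c' • (1 : Matrix Ω Ω ℤ) + d' • allOne Ω) :
    c = c' ∧ d = d' := by
  obtain ⟨x0, y0, h0⟩ := Fintype.exists_pair_of_one_lt_card hn
  have h1 := congrFun (congrFun h x0) x0
  have h3 := congrFun (congrFun h x0) y0
  simp only [form_apply, if_neg h0, ↓reduceIte, zero_add] at h1 h3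
  exact ⟨by omega, h3⟩

theorem form_mul_allOne (c d : ℤ) : (c • (1 : Matrix Ω Ω ℤ) + d • allOne Ω) * allOne Ω =
    (c + d * Fintype.card Ω) • allOne Ω := by
  rw [add_mul, smul_mul, one_mul, smul_mul, allOne_mul_allOne, smul_smul, ← add_smul]

/-- The arithmetic at the end of the argument. -/
theorem arith {n k a b c d : ℤ} (j : ℕ) (hn : 1 < n) (hk0 : 1 ≤ k) (hkn : k < n)
    (hcop : IsCoprime k n) (hab : a + b = k) (hsq : a + b * n = k * k) (hb : 0 ≤ b)
    (hc : c * c = a ^ (2 * j + 1)) (hd : k ^ (2 * j + 1) = c + d * n) : k = 1 ∨ k = n - 1 := by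
  have hca : IsCoprime a n := by
    have h : IsCoprime (k * k) n := hcop.mul_left hcop
    rw [← hsq] at h
    exact IsCoprime.of_add_mul_right_left (by rwa [mul_comm b n] at h ⊢)
  have ha0 : a ≠ 0 := by
    rintro rfl
    rw [isCoprime_zero_left, Int.isUnit_iff] at hca
    omega
  obtain ⟨e, rfl⟩ : a ^ j ∣ c := by
    have h : (a ^ j) ^ 2 ∣ c ^ 2 := ⟨a, by rw [pow_two c, hc, ← pow_mul, ← pow_succ]; congr 1; omega⟩
    exact (Int.pow_dvd_pow_iff two_ne_zero).1 h
  have hea : e * e = a := by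
    refine mul_left_cancel₀ (pow_ne_zero (2 * j) ha0) ?_
    rw [← pow_succ]
    linear_combination hc
  have hdvd : n ∣ k - e := by
    refine (hca.symm.pow_right (n := j)).dvd_of_dvd_mul_left ?_
    obtain ⟨t, ht⟩ : n ∣ (k * k) ^ j - a ^ j := (show n ∣ k * k - a from ⟨b, by linear_combination -hsq⟩).trans
      (sub_dvd_pow_sub_pow _ _ j)
    refine ⟨d - k * t, ?_⟩
    have : k ^ (2 * j + 1) = (k * k) ^ j * k := by rw [pow_succ, pow_mul, pow_two]
    rw [this] at hd
    linear_combination hd - k * ht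
  obtain ⟨s, hs⟩ := hdvd
  have he : e * e ≤ k := by rw [hea]; omega
  have h1 : -k ≤ e ∧ e ≤ k := by
    constructor <;> nlinarith
  have hs1 : s = 0 ∨ s = 1 := by
    have h3 : 0 ≤ n * s := by omega
    have h4 : n * s < n * 2 := by omega
    have := Int.lt_of_mul_lt_mul_left h4 (by omega)
    have : 0 ≤ s := nonneg_of_mul_nonneg_right h3 (by omega)
    omega
  rcases hs1 with rfl | rfl
  · left
    have : e = k := by linarith
    subst this
    nlinarith
  · right
    have : e = k - n := by linarith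
    subst this
    have h5 : a * (n - 1) = k * (n - k) := by linear_combination n * hab - hsq
    have h6 : (n - k) * (n - 1) = k := by
      refine mul_left_cancel₀ (show n - k ≠ 0 by omega) ?_
      rw [← hea] at h5
      linear_combination h5
    have h7 : (n - k) = 1 := by nlinarith
    omega

theorem card_orbit_map (h2 : IsMultiplyPretransitive G Ω 2) (o ω : Ω) (α : MulAut G)
    (hα : Odd (orderOf α))
    (hcop : (Nat.card (orbit ((stabilizer G o).map α.toMonoidHom) ω)).Coprime (Fintype.card Ω)) :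
    Nat.card (orbit ((stabilizer G o).map α.toMonoidHom) ω) = 1 ∨
      Nat.card (orbit ((stabilizer G o).map α.toMonoidHom) ω) = Fintype.card Ω - 1 := by
  classical
  set H := (stabilizer G o).map α.toMonoidHom with hH
  set O := orbit H ω with hO
  set k := Nat.card O with hkdef
  set n := Fintype.card Ω with hndef
  have hk0 : 0 < k := Nat.card_pos_iff.2 ⟨⟨⟨ω, mem_orbit_self ω⟩⟩, inferInstance⟩
  rcases Nat.lt_or_ge 1 n with hn | hn
  swap
  · left
    have : k ≤ n := by
      rw [hkdef, hndef, ← Nat.card_eq_fintype_card]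
      exact Nat.card_le_card_of_injective Subtype.val Subtype.val_injective
    omega
  haveI : IsPretransitive G Ω := by
    refine ⟨fun x y => ?_⟩
    by_cases hxy : x = y
    · exact ⟨1, by rw [one_smul, hxy]⟩
    obtain ⟨g, hg, -⟩ := (MulAction.is_two_pretransitive_iff.1 h2) hxy (Ne.symm hxy)
    exact ⟨g, hg⟩
  let β : MulAut G := α⁻¹
  let N : Matrix Ω Ω ℤ := Matrix.of fun x y => if ∃ g : G, g • ω = x ∧ β g • o = y then 1 else 0
  have hN : Inv (1 : MulAut G) β N := by
    intro g x y
    simp only [N, Matrix.of_apply, MulAut.one_apply]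
    congr 1
    refine propext ⟨?_, ?_⟩
    · rintro ⟨h, h1, h3⟩
      exact ⟨g⁻¹ * h, by rw [mul_smul, h1, inv_smul_smul],
        by rw [map_mul, map_inv, mul_smul, h3, inv_smul_smul]⟩
    · rintro ⟨h, h1, h3⟩
      exact ⟨g * h, by rw [mul_smul, h1], by rw [map_mul, mul_smul, h3]⟩
  have hNtwist : ∀ j : ℕ, Inv (β ^ j) (β ^ (j + 1)) N := fun j g x y => by
    rw [pow_succ']
    exact hN ((β ^ j) g) x y
  have hNpow : ∀ j : ℕ, Inv (1 : MulAut G) (β ^ j) (N ^ j) := by
    intro j
    induction j with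
    | zero =>
      intro g x y
      simp only [pow_zero, MulAut.one_apply, Matrix.one_apply]
      rw [if_congr (smul_left_cancel_iff g) rfl rfl]
    | succ j ih =>
      rw [pow_succ N]
      exact ih.mul (hNtwist j)
  have hcol : ∀ y, ∑ x, N x y = k := by
    intro y
    obtain ⟨g₀, hg₀⟩ := exists_smul_eq G o y
    set g := α g₀ with hg
    have hβg : β g = g₀ := by simp [β, hg]
    rw [← Equiv.sum_comp (MulAction.toPerm g)]
    have h : ∀ x, N (g • x) y = if x ∈ O then 1 else 0 := fun x => by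
      have h1 := hN g x o
      rw [MulAut.one_apply, hβg, hg₀] at h1
      rw [h1]
      simp only [N, Matrix.of_apply]
      refine if_congr ?_ rfl rfl
      constructor
      · rintro ⟨u, h3, h4⟩
        exact ⟨⟨u, β u, h4, by simp [β]⟩, h3⟩
      · rintro ⟨⟨u, v, hv, rfl⟩, h3⟩
        exact ⟨α v, h3, by simpa [β] using hv⟩
    simp only [MulAction.toPerm_apply, h, Finset.sum_boole]
    rw [hkdef, Nat.card_eq_fintype_card]
    simp [Fintype.card_subtype]
  have hJN : allOne Ω * N = (k : ℤ) • allOne Ω := by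
    ext x y
    simp [allOne, Matrix.mul_apply, hcol y]
  have hrow : ∀ x, ∑ y, N x y = k := by
    obtain ⟨x0, -⟩ : ∃ x0 : Ω, True := ⟨ω, trivial⟩
    have hconst : ∀ x, ∑ y, N x y = ∑ y, N ω y := fun x => by
      obtain ⟨g, hg⟩ := exists_smul_eq G ω x
      rw [← hg, ← Equiv.sum_comp (MulAction.toPerm (β g))]
      exact Finset.sum_congr rfl fun z _ => hN g ω z
    have h := Finset.sum_comm (s := (Finset.univ : Finset Ω)) (t := (Finset.univ : Finset Ω)) (f := fun x y => N x y)
    simp only [hcol, Finset.sum_congr rfl fun x _ => hconst x, Finset.sum_const, Finset.card_univ,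
      nsmul_eq_mul] at h
    intro x
    rw [hconst x]
    exact mul_left_cancel₀ (by exact_mod_cast (show n ≠ 0 by omega)) h
  have hNJ : N * allOne Ω = (k : ℤ) • allOne Ω := by
    ext x y
    simp [allOne, Matrix.mul_apply, hrow x]
  obtain ⟨a, b, hab⟩ := scalar_form h2 hn (hN.mul hN.transpose)
  have hdiag : a + b = k := by
    have h := congrFun (congrFun hab ω) ω
    simp only [form_apply, ↓reduceIte, Matrix.mul_apply, Matrix.transpose_apply] at h
    rw [← h, ← hrow ω]
    refine Finset.sum_congr rfl fun z _ => ?_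
    simp only [N, Matrix.of_apply]
    split_ifs <;> simp
  have hbnn : 0 ≤ b := by
    obtain ⟨x0, y0, h0⟩ := Fintype.exists_pair_of_one_lt_card hn
    have h := congrFun (congrFun hab x0) y0
    simp only [form_apply, if_neg h0, zero_add, Matrix.mul_apply, Matrix.transpose_apply] at h
    rw [← h]
    refine Finset.sum_nonneg fun z _ => mul_nonneg ?_ ?_ <;>
      · simp only [N, Matrix.of_apply]; split_ifs <;> norm_num
  have hJt : (allOne Ω)ᵀ = allOne Ω := rfl
  have hsq : a + b * (n : ℤ) = (k : ℤ) * k := by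
    have h := congrArg (· * allOne Ω) hab
    simp only [form_mul_allOne, mul_assoc] at h
    have h4 : Nᵀ * allOne Ω = (k : ℤ) • allOne Ω := by
      rw [← hJt, ← Matrix.transpose_mul, hJN, Matrix.transpose_smul]
    rw [h4, Matrix.mul_smul, hNJ, smul_smul] at h
    have := congrFun (congrFun h ω) ω
    simp [allOne] at this
    exact this.symm
  have hpowJ : ∀ j : ℕ, N ^ j * allOne Ω = ((k : ℤ) ^ j) • allOne Ω := by
    intro j
    induction j with
    | zero => simp
    | succ j ih => rw [pow_succ, mul_assoc, hNJ, Matrix.mul_smul, ih, smul_smul, pow_succ']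
  have hgram : ∀ j : ℕ, ∃ t : ℤ, N ^ j * (N ^ j)ᵀ = (a ^ j) • (1 : Matrix Ω Ω ℤ) + t • allOne Ω := by
    intro j
    induction j with
    | zero => exact ⟨0, by simp⟩
    | succ j ih =>
      obtain ⟨t, ht⟩ := ih
      refine ⟨a * t + b * ((k : ℤ) ^ j * (k : ℤ) ^ j), ?_⟩
      have h5 : allOne Ω * (N ^ j)ᵀ = ((k : ℤ) ^ j) • allOne Ω := by
        rw [← hJt, ← Matrix.transpose_mul, hpowJ, Matrix.transpose_smul]
      rw [pow_succ, Matrix.transpose_mul, mul_assoc, ← mul_assoc N, hab, add_mul, Matrix.smul_mul, one_mul,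
        Matrix.smul_mul, h5, mul_add, Matrix.mul_smul, ht, Matrix.mul_smul, Matrix.mul_smul, hpowJ,
        smul_add, smul_smul, smul_smul, smul_smul, smul_smul, add_assoc, ← add_smul, pow_succ']
      congr 2
      ring
  obtain ⟨j, hj⟩ := hα
  have hβ : β ^ (2 * j + 1) = 1 := by
    rw [← hj]
    show α⁻¹ ^ orderOf α = 1
    rw [inv_pow, pow_orderOf_eq_one, inv_one]
  have hinvm := hNpow (2 * j + 1)
  rw [hβ] at hinvm
  obtain ⟨c, d, hcd⟩ := scalar_form h2 hn hinvm
  have hd : (k : ℤ) ^ (2 * j + 1) = c + d * n := by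
    have h := hpowJ (2 * j + 1)
    rw [hcd, form_mul_allOne] at h
    have := congrFun (congrFun h ω) ω
    simp [allOne] at this
    exact this.symm
  have hc : c * c = a ^ (2 * j + 1) := by
    obtain ⟨t, ht⟩ := hgram (2 * j + 1)
    rw [hcd, Matrix.transpose_add, Matrix.transpose_smul, Matrix.transpose_one, Matrix.transpose_smul,
      hJt, mul_add, form_mul_allOne c d |> fun h => (by rw [Matrix.mul_smul (c • (1 : Matrix Ω Ω ℤ) + d • allOne Ω) d (allOne Ω), h] :
        (c • (1 : Matrix Ω Ω ℤ) + d • allOne Ω) * (d • allOne Ω) = d • ((c + d * Fintype.card Ω) • allOne Ω)),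
      Matrix.mul_smul, mul_one, smul_add, smul_smul, smul_smul, smul_smul, add_assoc, ← add_smul] at ht
    exact (coeff_eq hn ht).1
  have hkn : k < n := by
    rcases Nat.lt_or_ge k n with h | h
    · exact h
    · exfalso
      have h6 : k ≤ n := by
        rw [hkdef, hndef, ← Nat.card_eq_fintype_card]
        exact Nat.card_le_card_of_injective Subtype.val Subtype.val_injective
      have h7 : k = n := le_antisymm h6 h
      rw [h7, Nat.coprime_self] at hcop
      omega
  rcases arith j (by exact_mod_cast hn) (by exact_mod_cast hk0) (by exact_mod_cast hkn)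
    (Nat.isCoprime_iff_coprime.2 hcop) hdiag hsq hbnn hc hd with h | h
  · exact Or.inl (by exact_mod_cast h)
  · right; omega

/-- An automorphism mapping a point stabiliser to a point stabiliser is induced by a permutation. -/
theorem exists_perm [Finite G] (h2 : IsMultiplyPretransitive G Ω 2) (hn : 1 < Fintype.card Ω) (o ω : Ω)
    (α : MulAut G) (h : (stabilizer G o).map α.toMonoidHom ≤ stabilizer G ω) :
    ∃ σ : Equiv.Perm Ω, ∀ (g : G) (x : Ω), σ (g • x) = α g • σ x := by
  classical
  haveI : IsPretransitive G Ω := by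
    refine ⟨fun x y => ?_⟩
    by_cases hxy : x = y
    · exact ⟨1, by rw [one_smul, hxy]⟩
    obtain ⟨g, hg, -⟩ := (MulAction.is_two_pretransitive_iff.1 h2) hxy (Ne.symm hxy)
    exact ⟨g, hg⟩
  choose u hu using fun x => exists_smul_eq G o x
  let f : Ω → Ω := fun x => α (u x) • ω
  have hf : ∀ g, f (g • o) = α g • ω := fun g => by
    have h1 : α ((u (g • o))⁻¹ * g) ∈ stabilizer G ω :=
      h ⟨_, by rw [SetLike.mem_coe, mem_stabilizer_iff, mul_smul, inv_smul_eq_iff, hu], rfl⟩
    rw [mem_stabilizer_iff, map_mul, map_inv, mul_smul, inv_smul_eq_iff] at h1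
    exact h1.symm
  have hs : Function.Surjective f := fun y => by
    obtain ⟨g, hg⟩ := exists_smul_eq G ω y
    exact ⟨α.symm g • o, by rw [hf, MulEquiv.apply_symm_apply, hg]⟩
  refine ⟨Equiv.ofBijective f ⟨Finite.injective_iff_surjective.2 hs, hs⟩, fun g x => ?_⟩
  show f (g • x) = α g • f x
  rw [← hu x, ← mul_smul, hf, hf, map_mul, mul_smul]

/-- The main theorem. -/
theorem induced {Ω : Type*} [Fintype Ω] (G : Subgroup (Equiv.Perm Ω)) (h2 : IsMultiplyPretransitive G Ω 2)
    (o : Ω) (α : MulAut G) (hα : Odd (orderOf α)) (ω : Ω)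
    (hk : (Nat.card (orbit ((stabilizer G o).map α.toMonoidHom) ω)).Coprime (Fintype.card Ω)) :
    (∃ σ : Equiv.Perm Ω, σ ∈ Subgroup.normalizer (G : Set (Equiv.Perm Ω)) ∧
        ∀ g : G, ((α g : G) : Equiv.Perm Ω) = σ * (g : Equiv.Perm Ω) * σ⁻¹) ∧
      (Nat.card (orbit ((stabilizer G o).map α.toMonoidHom) ω) = 1 ∨
        Nat.card (orbit ((stabilizer G o).map α.toMonoidHom) ω) = Fintype.card Ω - 1) := by
  classical
  have hmain := card_orbit_map h2 o ω α hα hk
  refine ⟨?_, hmain⟩
  obtain ⟨σ, hσ⟩ : ∃ σ : Equiv.Perm Ω, ∀ g : G, ((α g : G) : Equiv.Perm Ω) = σ * (g : Equiv.Perm Ω) * σ⁻¹ := by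
    rcases Nat.lt_or_ge 1 (Fintype.card Ω) with hn | hn
    swap
    · haveI := Fintype.card_le_one_iff_subsingleton.1 hn
      exact ⟨1, fun g => Equiv.ext fun x => Subsingleton.elim _ _⟩
    set H := (stabilizer G o).map α.toMonoidHom
    obtain ⟨ω₁, hω₁⟩ : ∃ ω₁ : Ω, ∀ g ∈ H, g • ω₁ = ω₁ := by
      rcases hmain with h1 | h1
      · refine ⟨ω, fun g hg => ?_⟩
        rw [Nat.card_eq_one_iff_unique] at h1
        exact congrArg Subtype.val (@Subsingleton.elim _ h1.1
          ⟨g • ω, ⟨⟨g, hg⟩, rfl⟩⟩ ⟨ω, mem_orbit_self ω⟩)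
      · have hsdiff : (Finset.univ.filter fun x => x ∉ orbit H ω).card = 1 := by
          have := Finset.card_filter_add_card_filter_not (s := (Finset.univ : Finset Ω)) (fun x => x ∈ orbit H ω)
          have h9 : (Finset.univ.filter fun x => x ∈ orbit H ω).card = Nat.card (orbit H ω) := by
            rw [Nat.card_eq_fintype_card]
            simp [Fintype.card_subtype]
          rw [Finset.card_univ, h9, h1] at this
          omega
        obtain ⟨ω₁, hω₁⟩ := Finset.card_eq_one.1 hsdiff
        refine ⟨ω₁, fun g hg => ?_⟩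
        have h3 : ω₁ ∉ orbit H ω := by
          have := Finset.mem_singleton_self ω₁
          rw [← hω₁, Finset.mem_filter] at this
          exact this.2
        have h4 : g • ω₁ ∉ orbit H ω := fun h5 => h3 (by
          obtain ⟨u, hu⟩ := h5
          exact ⟨⟨g, hg⟩⁻¹ * u, by
            show (⟨g, hg⟩⁻¹ * u : H) • ω = ω₁
            rw [mul_smul, show u • ω = g • ω₁ from hu, inv_smul_eq_iff]; rfl⟩)
        have h6 : g • ω₁ ∈ Finset.univ.filter fun x => x ∉ orbit H ω :=
          Finset.mem_filter.2 ⟨Finset.mem_univ _, h4⟩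
        rwa [hω₁, Finset.mem_singleton] at h6
    obtain ⟨σ, hσ⟩ := exists_perm h2 hn o ω₁ α fun g hg => hω₁ g hg
    refine ⟨σ, fun g => ?_⟩
    rw [eq_mul_inv_iff_mul_eq]
    refine Equiv.ext fun x => ?_
    exact (hσ g x).symm
  refine ⟨σ, ?_, hσ⟩
  rw [Subgroup.mem_normalizer_iff]
  intro u
  constructor
  · intro hu
    rw [← hσ ⟨u, hu⟩]
    exact SetLike.coe_mem _
  · intro hu
    have h1 := hσ (α.symm ⟨_, hu⟩)
    rw [MulEquiv.apply_symm_apply] at h1
    have h3 : u = ((α.symm ⟨_, hu⟩ : G) : Equiv.Perm Ω) := mul_left_cancel (mul_right_cancel h1)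
    rw [h3]
    exact SetLike.coe_mem _

end Cfsg.Agent.OddAut
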