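import Mathlib.LinearAlgebra.Matrix.GeneralLinearGroup.Defs
import Mathlib.LinearAlgebra.Matrix.ToLinearEquiv
import Mathlib.Algebra.Group.Subgroup.Finite
import Mathlib.GroupTheory.OrderOfElement
import Mathlib.Algebra.Field.ZMod
import Mathlib.Tactic.LinearCombination
import Mathlib.Tactic.Ring
import Mathlib.Data.List.GetD

/-!
Checkable certificates for subgroups of `GL(2,p)` acting regularly on non-zero vectors.
A group is given as a list of matrices times the powers of a scalar.
-/

set_option autoImplicit false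

namespace Cfsg.Agent.PermGroups.RegLin

/-- a 2×2 matrix over the naturals, row major -/
abbrev M4 := ℕ × ℕ × ℕ × ℕ

/-- product modulo `p` -/
def mul (p : ℕ) : M4 → M4 → M4
  | (a, b, c, d), (a', b', c', d') =>
    ((a * a' + b * c') % p, (a * b' + b * d') % p, (c * a' + d * c') % p, (c * b' + d * d') % p)

/-- scalar -/
def scal (p c j : ℕ) : M4 := (c ^ j % p, 0, 0, c ^ j % p)

/-- the matrix -/
def mat (p : ℕ) : M4 → Matrix (Fin 2) (Fin 2) (ZMod p)
  | (a, b, c, d) => !![(a : ZMod p), b; c, d]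

theorem mat_mul (p : ℕ) (x y : M4) : mat p (mul p x y) = mat p x * mat p y := by
  obtain ⟨a, b, c, d⟩ := x
  obtain ⟨a', b', c', d'⟩ := y
  show !![(((a * a' + b * c') % p : ℕ) : ZMod p), _; _, _] = _
  simp [mat, ZMod.natCast_mod, Matrix.mul_fin_two]

/-- product of a word -/
def word (p : ℕ) (gens : List M4) : List ℕ → M4
  | [] => (1, 0, 0, 1)
  | k :: ks => mul p (gens.getD k (1, 0, 0, 1)) (word p gens ks)

/-- determinant condition for having no fixed vector -/
def fpf (p : ℕ) : M4 → Bool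
  | (a, b, c, d) => (a * d + 1) % p != (b * c + a + d) % p

/-- encoding -/
def enc (p : ℕ) : M4 → ℕ
  | (a, b, c, d) => ((a * p + b) * p + c) * p + d

/-- determinant one -/
def detOne (p : ℕ) : M4 → Bool
  | (a, b, c, d) => (a * d) % p == (b * c + 1) % p

/-- strictly increasing -/
def incr : List ℕ → Bool
  | [] => true
  | [_] => true
  | a :: b :: t => decide (a < b) && incr (b :: t)

/-- the certificate checker -/
def check (p c m : ℕ) (L gens : List M4) (tbl : List (List ℕ)) (wd : List (List ℕ)) (one : ℕ) : Bool :=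
  decide (one < L.length) && (L.getD one (0,0,0,0) == (1, 0, 0, 1)) && decide (c ^ m % p = 1) && decide (0 < m) &&
  incr (L.map (enc p)) && L.all (detOne p) && L.all (fun x => decide (x.1 < p ∧ x.2.1 < p ∧ x.2.2.1 < p ∧ x.2.2.2 < p)) &&
  (List.range m).all (fun j => j == 0 || c ^ (2 * j) % p != 1) &&
  (List.range L.length).all (fun i =>
    word p gens (wd.getD i []) == L.getD i (0,0,0,0) &&
    (List.range gens.length).all (fun k =>
      decide ((tbl.getD i []).getD k L.length < L.length) &&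
      mul p (L.getD i (0,0,0,0)) (gens.getD k (1,0,0,1)) == L.getD ((tbl.getD i []).getD k L.length) (0,0,0,0)) &&
    (List.range m).all (fun j => (i == one && j == 0) || fpf p (mul p (L.getD i (0,0,0,0)) (scal p c j))))

theorem getD_lt_of_incr : ∀ (l : List ℕ), incr l = true → ∀ i j, i < j → j < l.length → l.getD i 0 < l.getD j 0
  | [], _, _, _, _, hj => by simp at hj
  | [_], _, i, j, hij, hj => by simp at hj; omega
  | a :: b :: t, h, i, j, hij, hj => by
    simp only [incr, Bool.and_eq_true, decide_eq_true_eq] at h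
    have ih := getD_lt_of_incr (b :: t) h.2
    obtain ⟨j, rfl⟩ : ∃ j', j = j' + 1 := ⟨j - 1, by omega⟩
    simp only [List.length_cons] at hj
    cases i with
    | zero =>
      rw [List.getD_cons_zero, List.getD_cons_succ]
      rcases Nat.eq_zero_or_pos j with rfl | hj0
      · exact h.1
      · exact lt_trans h.1 (ih 0 j hj0 (by simp; omega))
    | succ i => rw [List.getD_cons_succ, List.getD_cons_succ]; exact ih i j (by omega) (by simp; omega)

variable {p : ℕ} [Fact p.Prime]

theorem regular (c m : ℕ) (L gens : List M4) (tbl wd : List (List ℕ)) (one : ℕ)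
    (hck : check p c m L gens tbl wd one = true)
    (hN : L.length * m + 1 = p ^ 2)
    (S : Set (Matrix.GeneralLinearGroup (Fin 2) (ZMod p)))
    (hS : ∀ g ∈ S, (∃ k < gens.length, (g : Matrix (Fin 2) (Fin 2) (ZMod p)) = mat p (gens.getD k (1,0,0,1))) ∨
      (g : Matrix (Fin 2) (Fin 2) (ZMod p)) = mat p (scal p c 1))
    (hgen : ∀ k < gens.length, ∃ g ∈ S, (g : Matrix (Fin 2) (Fin 2) (ZMod p)) = mat p (gens.getD k (1,0,0,1)))
    (hc : m = 1 ∨ ∃ g ∈ S, (g : Matrix (Fin 2) (Fin 2) (ZMod p)) = mat p (scal p c 1)) :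
    Nat.card (Subgroup.closure S) = L.length * m ∧ ∀ v w : Fin 2 → ZMod p, v ≠ 0 → w ≠ 0 →
      ∃! h : Subgroup.closure S, Matrix.mulVec ((h : Matrix.GeneralLinearGroup (Fin 2) (ZMod p)) :
        Matrix (Fin 2) (Fin 2) (ZMod p)) v = w := by
  have hp : p.Prime := Fact.out
  set N := L.length
  simp only [check, Bool.and_eq_true, decide_eq_true_eq, beq_iff_eq, List.all_eq_true, List.mem_range, Bool.or_eq_true,
    bne_iff_ne] at hck
  obtain ⟨⟨⟨⟨⟨⟨⟨⟨hone, hLone⟩, hcm⟩, hm⟩, hincr⟩, hdet⟩, hbd⟩, hc2⟩, hrow⟩ := hck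
  let Li : ℕ → M4 := fun i => L.getD i (0,0,0,0)
  let el : ℕ → ℕ → Matrix (Fin 2) (Fin 2) (ZMod p) := fun i j => mat p (Li i) * mat p (scal p c j)
  have hscal : ∀ j, mat p (scal p c j) = ((c : ZMod p) ^ j) • (1 : Matrix (Fin 2) (Fin 2) (ZMod p)) := by
    intro j
    ext a b
    fin_cases a <;> fin_cases b <;> simp [mat, scal, ZMod.natCast_mod]
  have hel : ∀ i j, el i j = ((c : ZMod p) ^ j) • mat p (Li i) := fun i j => by
    simp only [el, hscal, Matrix.mul_smul, Matrix.mul_one]
  have hcm' : (c : ZMod p) ^ m = 1 := by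
    rw [← Nat.cast_pow, ← ZMod.natCast_mod, hcm, Nat.cast_one]
  have hcper : ∀ j, (c : ZMod p) ^ (j % m) = (c : ZMod p) ^ j := fun j => by
    conv_rhs => rw [← Nat.mod_add_div j m, pow_add, pow_mul, hcm', one_pow, mul_one]
  have hinS : ∀ x ∈ Subgroup.closure S, ∃ i < N, ∃ j < m, (x : Matrix (Fin 2) (Fin 2) (ZMod p)) = el i j := by
    intro x hx
    have hx' : x ∈ (Subgroup.closure S).toSubmonoid := hx
    rw [Subgroup.closure_toSubmonoid_of_finite] at hx'
    clear hx
    induction hx' using Submonoid.closure_induction_right with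
    | one =>
      refine ⟨one, hone, 0, hm, ?_⟩
      rw [hel, pow_zero, one_smul]
      show (1 : Matrix (Fin 2) (Fin 2) (ZMod p)) = mat p (L.getD one (0,0,0,0))
      rw [hLone]
      ext a b
      fin_cases a <;> fin_cases b <;> simp [mat]
    | mul_right y _ g hg ih =>
      obtain ⟨i, hi, j, hj, hy⟩ := ih
      have hyg : ((y * g : Matrix.GeneralLinearGroup (Fin 2) (ZMod p)) : Matrix (Fin 2) (Fin 2) (ZMod p)) = (y : Matrix (Fin 2) (Fin 2) (ZMod p)) * g := rfl
      rcases hS g hg with ⟨k, hk, hgk⟩ | hgc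
      · obtain ⟨h1, h2⟩ := (hrow i hi).1.2 k hk
        refine ⟨_, h1, j, hj, ?_⟩
        rw [hyg, hy, hgk, hel, hel, Matrix.smul_mul, ← mat_mul, h2]
      · refine ⟨i, hi, (j + 1) % m, Nat.mod_lt _ hm, ?_⟩
        rw [hyg, hy, hgc, hel, hel, hscal, Matrix.mul_smul, Matrix.mul_one, smul_smul, hcper, pow_one, pow_succ']
  have hword : ∀ w : List ℕ, ∃ x ∈ Subgroup.closure S, (x : Matrix (Fin 2) (Fin 2) (ZMod p)) = mat p (word p gens w) := by
    intro w
    induction w with
    | nil => exact ⟨1, one_mem _, by ext a b; fin_cases a <;> fin_cases b <;> simp [mat, word]⟩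
    | cons k ks ih =>
      obtain ⟨x, hx, hxe⟩ := ih
      rcases Nat.lt_or_ge k gens.length with hk | hk
      · obtain ⟨g, hg, hge⟩ := hgen k hk
        refine ⟨g * x, mul_mem (Subgroup.subset_closure hg) hx, ?_⟩
        show (g : Matrix (Fin 2) (Fin 2) (ZMod p)) * x = _
        rw [hge, hxe, ← mat_mul]; rfl
      · refine ⟨x, hx, ?_⟩
        rw [hxe]
        show mat p (word p gens ks) = mat p (mul p (gens.getD k (1,0,0,1)) (word p gens ks))
        rw [List.getD_eq_default _ _ hk, mat_mul, show mat p ((1, 0, 0, 1) : M4) = 1 by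
          ext a b; fin_cases a <;> fin_cases b <;> simp [mat], one_mul]
  have hmem : ∀ i < N, ∀ j < m, ∃ x ∈ Subgroup.closure S, (x : Matrix (Fin 2) (Fin 2) (ZMod p)) = el i j := by
    intro i hi j hj
    obtain ⟨x, hx, hxe⟩ := hword (wd.getD i [])
    rw [(hrow i hi).1.1] at hxe
    rcases hc with hm1 | ⟨g, hg, hge⟩
    · refine ⟨x, hx, ?_⟩
      rw [hxe, hel, show j = 0 by omega, pow_zero, one_smul]
    · refine ⟨x * g ^ j, mul_mem hx (pow_mem (Subgroup.subset_closure hg) j), ?_⟩
      show (x : Matrix (Fin 2) (Fin 2) (ZMod p)) * ((g ^ j : Matrix.GeneralLinearGroup (Fin 2) (ZMod p)) : Matrix (Fin 2) (Fin 2) (ZMod p)) = _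
      rw [Units.val_pow_eq_pow_val, hxe, hge, hel, hscal, pow_one, smul_pow, one_pow, Matrix.mul_smul, Matrix.mul_one]
  have cast_inj : ∀ a b : ℕ, a < p → b < p → (a : ZMod p) = b → a = b := fun a b ha hb h => by
    have := congrArg ZMod.val h
    rwa [ZMod.val_natCast, ZMod.val_natCast, Nat.mod_eq_of_lt ha, Nat.mod_eq_of_lt hb] at this
  have hinj : ∀ i < N, ∀ i' < N, ∀ j < m, ∀ j' < m, el i j = el i' j' → i = i' ∧ j = j' := by
    intro i hi i' hi' j hj j' hj' he
    rw [hel, hel] at he
    have hdet1 : ∀ i < N, (mat p (Li i)).det = 1 := by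
      intro i hi
      have h := hdet (Li i) (by simp only [Li]; rw [List.getD_eq_getElem _ _ hi]; exact List.getElem_mem _)
      simp only [detOne, beq_iff_eq] at h
      have h' := congrArg (fun n : ℕ => (n : ZMod p)) h
      simp only [ZMod.natCast_mod, Nat.cast_mul, Nat.cast_add, Nat.cast_one] at h'
      rw [show mat p (Li i) = !![((Li i).1 : ZMod p), (Li i).2.1; (Li i).2.2.1, (Li i).2.2.2] from rfl,
        Matrix.det_fin_two_of]
      linear_combination h'
    have hd := congrArg Matrix.det he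
    rw [Matrix.det_smul, Matrix.det_smul, hdet1 i hi, hdet1 i' hi', mul_one, mul_one, Fintype.card_fin, ← pow_mul, ← pow_mul] at hd
    have hcne : (c : ZMod p) ≠ 0 := fun h => by rw [h, zero_pow hm.ne'] at hcm'; exact zero_ne_one hcm'
    have hjj : j = j' := by
      by_contra hne
      wlog hlt : j < j' generalizing j j' i i' with H
      · exact H i' hi' i hi j' hj' j hj he.symm hd.symm (Ne.symm hne) (by omega)
      have h2 : (c : ZMod p) ^ (2 * (j' - j)) = 1 := by
        have : (c : ZMod p) ^ (j * 2) * (c : ZMod p) ^ (2 * (j' - j)) = (c : ZMod p) ^ (j * 2) * 1 := by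
          rw [mul_one, ← pow_add]
          conv_rhs => rw [hd]
          congr 1; omega
        exact mul_left_cancel₀ (pow_ne_zero _ hcne) this
      have h3 := (hc2 (j' - j) (by omega)).resolve_left (by omega)
      apply h3
      rw [← Nat.cast_pow, ← ZMod.natCast_mod] at h2
      refine cast_inj _ 1 (Nat.mod_lt _ hp.pos) hp.one_lt ?_
      rw [h2, Nat.cast_one]
    subst hjj
    refine ⟨?_, rfl⟩
    have he' := smul_right_injective (Matrix (Fin 2) (Fin 2) (ZMod p)) (pow_ne_zero j hcne) he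
    have hlist : Li i = Li i' := by
      have hb : ∀ i < N, (Li i).1 < p ∧ (Li i).2.1 < p ∧ (Li i).2.2.1 < p ∧ (Li i).2.2.2 < p := fun i hi =>
        hbd (Li i) (by simp only [Li]; rw [List.getD_eq_getElem _ _ hi]; exact List.getElem_mem _)
      obtain ⟨a1, b1, c1, d1⟩ := hb i hi
      obtain ⟨a2, b2, c2, d2⟩ := hb i' hi'
      refine Prod.ext (cast_inj _ _ a1 a2 ?_) (Prod.ext (cast_inj _ _ b1 b2 ?_) (Prod.ext (cast_inj _ _ c1 c2 ?_) (cast_inj _ _ d1 d2 ?_)))
      · simpa [mat] using congrFun (congrFun he' 0) 0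
      · simpa [mat] using congrFun (congrFun he' 0) 1
      · simpa [mat] using congrFun (congrFun he' 1) 0
      · simpa [mat] using congrFun (congrFun he' 1) 1
    by_contra hne
    have key : ∀ i < N, (L.map (enc p)).getD i 0 = enc p (Li i) := fun i hi => by
      simp only [Li]
      rw [List.getD_eq_getElem _ _ (by simpa using hi), List.getElem_map, List.getD_eq_getElem _ _ hi]
    rcases Nat.lt_or_gt_of_ne hne with h | h
    · have := getD_lt_of_incr _ hincr i i' h (by simpa using hi')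
      rw [key i hi, key i' hi', hlist] at this
      exact lt_irrefl _ this
    · have := getD_lt_of_incr _ hincr i' i h (by simpa using hi)
      rw [key i hi, key i' hi', hlist] at this
      exact lt_irrefl _ this
  have hfix : ∀ x ∈ Subgroup.closure S, ∀ v : Fin 2 → ZMod p, v ≠ 0 →
      Matrix.mulVec (x : Matrix (Fin 2) (Fin 2) (ZMod p)) v = v → x = 1 := by
    intro x hx v hv hxv
    obtain ⟨i, hi, j, hj, he⟩ := hinS x hx
    rcases (hrow i hi).2 j hj with hh | hf
    · obtain ⟨rfl, rfl⟩ := hh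
      apply Units.ext
      rw [he, hel, pow_zero, one_smul]
      show mat p (L.getD i (0,0,0,0)) = 1
      rw [hLone]
      ext a b
      fin_cases a <;> fin_cases b <;> simp [mat]
    · exfalso
      have hdet0 : (mat p (mul p (Li i) (scal p c j)) - 1).det = 0 := by
        rw [← Matrix.exists_mulVec_eq_zero_iff]
        refine ⟨v, hv, ?_⟩
        rw [Matrix.sub_mulVec, Matrix.one_mulVec, mat_mul]
        show (el i j).mulVec v - v = 0
        rw [← he, hxv, sub_self]
      rcases hE : mul p (Li i) (scal p c j) with ⟨a, b, c', d⟩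
      have hf' : fpf p (mul p (Li i) (scal p c j)) = true := hf
      rw [hE] at hdet0 hf'
      simp only [fpf, bne_iff_ne] at hf'
      apply hf'
      refine cast_inj _ _ (Nat.mod_lt _ hp.pos) (Nat.mod_lt _ hp.pos) ?_
      simp only [ZMod.natCast_mod, Nat.cast_add, Nat.cast_mul, Nat.cast_one]
      rw [mat, Matrix.det_fin_two] at hdet0
      simp at hdet0
      linear_combination hdet0
  have hcard : Nat.card (Subgroup.closure S) = N * m := by
    let f : Fin N × Fin m → Subgroup.closure S := fun q =>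
      ⟨(hmem q.1 q.1.2 q.2 q.2.2).choose, (hmem q.1 q.1.2 q.2 q.2.2).choose_spec.1⟩
    have hfe : ∀ q, ((f q : Matrix.GeneralLinearGroup (Fin 2) (ZMod p)) : Matrix (Fin 2) (Fin 2) (ZMod p)) = el q.1 q.2 := fun q =>
      (hmem q.1 q.1.2 q.2 q.2.2).choose_spec.2
    have hfb : Function.Bijective f := by
      constructor
      · intro q r h
        obtain ⟨h1, h2⟩ := hinj q.1 q.1.2 r.1 r.1.2 q.2 q.2.2 r.2 r.2.2 (by rw [← hfe, ← hfe, h])
        exact Prod.ext (Fin.ext h1) (Fin.ext h2)
      · intro x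
        obtain ⟨i, hi, j, hj, he⟩ := hinS x.1 x.2
        exact ⟨(⟨i, hi⟩, ⟨j, hj⟩), Subtype.ext (Units.ext ((hfe _).trans he.symm))⟩
    rw [← Nat.card_congr (Equiv.ofBijective f hfb), Nat.card_prod, Nat.card_fin, Nat.card_fin]
  refine ⟨hcard, fun v w hv hw => ?_⟩
  let f : Subgroup.closure S → {u : Fin 2 → ZMod p // u ≠ 0} := fun h =>
    ⟨Matrix.mulVec ((h : Matrix.GeneralLinearGroup (Fin 2) (ZMod p)) : Matrix (Fin 2) (Fin 2) (ZMod p)) v, fun h0 => hv (by
      have := congrArg (Matrix.mulVec (((h : Matrix.GeneralLinearGroup (Fin 2) (ZMod p))⁻¹ : Matrix.GeneralLinearGroup (Fin 2) (ZMod p)) : Matrix (Fin 2) (Fin 2) (ZMod p))) h0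
      rwa [Matrix.mulVec_mulVec, ← Units.val_mul, inv_mul_cancel, Units.val_one, Matrix.one_mulVec, Matrix.mulVec_zero] at this)⟩
  have hfinj : Function.Injective f := by
    intro h k hhk
    have h1 : Matrix.mulVec ((h : Matrix.GeneralLinearGroup (Fin 2) (ZMod p)) : Matrix (Fin 2) (Fin 2) (ZMod p)) v = Matrix.mulVec ((k : Matrix.GeneralLinearGroup (Fin 2) (ZMod p)) : Matrix (Fin 2) (Fin 2) (ZMod p)) v :=
      congrArg Subtype.val hhk
    have := hfix _ (k⁻¹ * h).2 v hv (by
      show Matrix.mulVec ((((k : Matrix.GeneralLinearGroup (Fin 2) (ZMod p)))⁻¹ * (h : Matrix.GeneralLinearGroup (Fin 2) (ZMod p)) : Matrix.GeneralLinearGroup (Fin 2) (ZMod p)) : Matrix (Fin 2) (Fin 2) (ZMod p)) v = v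
      rw [Units.val_mul, ← Matrix.mulVec_mulVec, h1, Matrix.mulVec_mulVec, ← Units.val_mul, inv_mul_cancel,
        Units.val_one, Matrix.one_mulVec])
    have h2 : k⁻¹ * h = 1 := Subtype.ext this
    exact (inv_mul_eq_one.1 h2).symm
  have hbij : Function.Bijective f := by
    rw [Nat.bijective_iff_injective_and_card]
    refine ⟨hfinj, ?_⟩
    rw [hcard, Nat.card_eq_fintype_card, Fintype.card_subtype_compl, Fintype.card_subtype_eq, Fintype.card_fun,
      ZMod.card, Fintype.card_fin]
    omega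
  obtain ⟨h, hh⟩ := hbij.2 ⟨w, hw⟩
  exact ⟨h, congrArg Subtype.val hh, fun k hk => hfinj (Subtype.ext (hk.trans (congrArg Subtype.val hh).symm))⟩

end Cfsg.Agent.PermGroups.RegLin
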