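import Mathlib

/-!
Automorphisms and subgroups of small index of the symmetric groups.
-/

set_option autoImplicit false

namespace Cfsg.Agent.PermGroups.Sym

open Equiv MulAction Subgroup
open scoped Nat

variable {α : Type*} [Fintype α] [DecidableEq α]

theorem two_pow_mul_factorial_lt : ∀ j : ℕ, 2 ^ (j + 3) * (j + 4)! < (2 * j + 6)!
  | 0 => by decide
  | j + 1 => by
    have ih := two_pow_mul_factorial_lt j
    rw [show j + 1 + 3 = (j + 3) + 1 by ring, pow_succ, show j + 1 + 4 = (j + 4) + 1 by ring, Nat.factorial_succ (j + 4),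
      show 2 * (j + 1) + 6 = (2 * j + 6) + 1 + 1 by ring, Nat.factorial_succ (2 * j + 6 + 1), Nat.factorial_succ (2 * j + 6)]
    calc 2 ^ (j + 3) * 2 * ((j + 4 + 1) * (j + 4)!) = (2 * (j + 5)) * (2 ^ (j + 3) * (j + 4)!) := by ring
      _ < (2 * (j + 5)) * (2 * j + 6)! := Nat.mul_lt_mul_of_pos_left ih (by omega)
      _ ≤ _ := by
        rw [← mul_assoc]
        exact Nat.mul_le_mul_right _ (by nlinarith)

theorem class_size_ne (m k : ℕ) (hk : 2 ≤ k) (h6 : m + 2 * k ≠ 6) :
    m ! * 2 ^ k * k ! ≠ (m + 2 * k - 2)! * 2 := by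
  obtain rfl | rfl | hk4 : k = 2 ∨ k = 3 ∨ 4 ≤ k := by omega
  · intro h
    have e : (m + 2 * 2 - 2)! = (m + 2) * (m + 1) * m ! := by
      rw [show m + 2 * 2 - 2 = m + 1 + 1 by omega, Nat.factorial_succ, Nat.factorial_succ]; ring
    rw [e] at h
    have hm := Nat.factorial_pos m
    have h' : (m + 2) * (m + 1) = 4 := by
      apply Nat.eq_of_mul_eq_mul_right hm
      norm_num [Nat.factorial] at h
      linarith
    rcases m with _ | _ | m <;> simp_all <;> nlinarith
  · intro h
    have e : (m + 2 * 3 - 2)! = (m + 4) * (m + 3) * ((m + 2) * (m + 1)) * m ! := by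
      rw [show m + 2 * 3 - 2 = m + 1 + 1 + 1 + 1 by omega, Nat.factorial_succ, Nat.factorial_succ, Nat.factorial_succ,
        Nat.factorial_succ]; ring
    rw [e] at h
    have hm := Nat.factorial_pos m
    have h' : (m + 4) * (m + 3) * ((m + 2) * (m + 1)) = 24 := by
      apply Nat.eq_of_mul_eq_mul_right hm
      norm_num [Nat.factorial] at h
      linarith
    rcases m with _ | m
    · exact h6 rfl
    · have : 5 * 4 * (3 * 2) ≤ (m + 1 + 4) * (m + 1 + 3) * ((m + 1 + 2) * (m + 1 + 1)) := by gcongr <;> omega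
      omega
  · refine ne_of_lt ?_
    obtain ⟨j, rfl⟩ : ∃ j, k = j + 4 := ⟨k - 4, by omega⟩
    have h1 := two_pow_mul_factorial_lt j
    have h2 : m ! * (2 * j + 6)! ≤ (m + 2 * (j + 4) - 2)! := by
      rw [show m + 2 * (j + 4) - 2 = m + (2 * j + 6) by omega]
      exact Nat.le_of_dvd (Nat.factorial_pos _) (Nat.factorial_mul_factorial_dvd_factorial_add _ _)
    calc m ! * 2 ^ (j + 4) * (j + 4)! = m ! * (2 ^ (j + 3) * (j + 4)!) * 2 := by ring
      _ < m ! * (2 * j + 6)! * 2 := by
        exact Nat.mul_lt_mul_of_pos_right (Nat.mul_lt_mul_of_pos_left h1 (Nat.factorial_pos m)) two_pos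
      _ ≤ _ := Nat.mul_le_mul_right 2 h2

theorem isSwap_map (h6 : Fintype.card α ≠ 6) (ψ : Perm α ≃* Perm α) {g : Perm α} (hg : g.IsSwap) : (ψ g).IsSwap := by
  have ho : orderOf (ψ g) = 2 := by rw [MulEquiv.orderOf_eq, hg.orderOf]
  obtain ⟨k, hk⟩ := Perm.cycleType_prime_order (σ := ψ g) (ho.symm ▸ Nat.prime_two)
  rw [ho] at hk
  rcases Nat.eq_zero_or_pos k with rfl | hk0
  · rw [Perm.isSwap_iff_cycleType, hk]; rfl
  exfalso
  have h1 := Perm.nat_card_centralizer g
  have h2 := Perm.nat_card_centralizer (ψ g)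
  have e : Nat.card (centralizer {g}) = Nat.card (centralizer {ψ g}) := by
    refine Nat.card_congr ((ψ : Perm α ≃ Perm α).subtypeEquiv fun x => ?_)
    simp only [mem_centralizer_singleton_iff]
    rw [← ψ.injective.eq_iff, map_mul, map_mul]
    rfl
  rw [e, h2, hk, Perm.isSwap_iff_cycleType.1 hg] at h1
  have hsum : (ψ g).cycleType.sum ≤ Fintype.card α := (ψ g).sum_cycleType ▸ Finset.card_le_univ _
  rw [hk, Multiset.sum_replicate, smul_eq_mul] at hsum
  obtain ⟨m, hm⟩ : ∃ m, Fintype.card α = m + 2 * (k + 1) := ⟨Fintype.card α - 2 * (k + 1), by omega⟩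
  refine class_size_ne m (k + 1) (by omega) (hm ▸ h6) ?_
  have e1 : ({2} : Multiset ℕ) = Multiset.replicate 1 2 := rfl
  simp only [e1, Multiset.toFinset_replicate, if_neg (Nat.succ_ne_zero _), Finset.prod_singleton, Multiset.count_replicate_self,
    Multiset.sum_replicate, Multiset.prod_replicate, smul_eq_mul, hm] at h1
  rw [show m + 2 * (k + 1) - (k + 1) * 2 = m by omega] at h1
  simpa using h1

theorem exists_shared {p q u v : α} (h : swap p q * swap u v ≠ swap u v * swap p q) :
    ∃ r, r ≠ p ∧ r ≠ q ∧ (swap u v = swap p r ∨ swap u v = swap q r) := by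
  have huv : u ≠ v := fun e => h (by rw [e, swap_self]; rfl)
  have hpq : p ≠ q := fun e => h (by rw [e, swap_self]; rfl)
  by_cases h1 : u = p ∨ u = q ∨ v = p ∨ v = q
  · rcases h1 with rfl | rfl | rfl | rfl
    · refine ⟨v, huv.symm, fun e => h (by rw [e]), Or.inl rfl⟩
    · refine ⟨v, fun e => h (by rw [e, swap_comm]), huv.symm, Or.inr rfl⟩
    · refine ⟨u, huv, fun e => h (by rw [e, swap_comm]), Or.inl (swap_comm _ _)⟩
    · refine ⟨u, fun e => h (by rw [e]), huv, Or.inr (swap_comm _ _)⟩
  · push Not at h1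
    refine absurd (Equiv.ext fun x => ?_) h
    simp only [Perm.mul_apply, swap_apply_def]
    grind

/-- an automorphism preserving the transpositions is inner -/
theorem exists_conj_of_swap (ψ : Perm α ≃* Perm α) (hs : ∀ g : Perm α, g.IsSwap → (ψ g).IsSwap) :
    ∃ σ : Perm α, ∀ g, ψ g = σ * g * σ⁻¹ := by
  by_cases h3 : Fintype.card α ≤ 2
  · have hle : Nat.card (Perm α) ≤ 2 := by
      rw [Nat.card_eq_fintype_card, Fintype.card_perm]
      exact (Nat.factorial_le h3).trans le_rfl
    refine ⟨1, fun g => ?_⟩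
    rw [one_mul, inv_one, mul_one]
    by_contra hne
    have hg1 : g ≠ 1 := fun e => hne (by rw [e, map_one])
    have hg2 : ψ g ≠ 1 := fun e => hg1 (by rwa [← map_one ψ, ψ.injective.eq_iff] at e)
    have : ({1, g, ψ g} : Finset (Perm α)).card = 3 := by
      rw [Finset.card_insert_of_notMem (by simp [Ne.symm hg1, Ne.symm hg2]), Finset.card_pair (Ne.symm hne)]
    have := Finset.card_le_univ ({1, g, ψ g} : Finset (Perm α))
    rw [Nat.card_eq_fintype_card] at hle
    omega
  obtain ⟨a, b, c, hab, hac, hbc⟩ := Fintype.two_lt_card_iff.1 (show 2 < Fintype.card α by omega)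
  have hne : ∀ {x y z : α}, x ≠ y → x ≠ z → y ≠ z → swap x y * swap x z ≠ swap x z * swap x y := by
    intro x y z hxy hxz hyz h
    have := congrArg (fun g : Perm α => g x) h
    simp [swap_apply_of_ne_of_ne hxz.symm hyz.symm, swap_apply_of_ne_of_ne hxy.symm hyz] at this
    exact hyz this.symm
  have hψne : ∀ {g h : Perm α}, g * h ≠ h * g → ψ g * ψ h ≠ ψ h * ψ g := fun hgh h => hgh (ψ.injective (by rwa [map_mul, map_mul]))
  obtain ⟨p₀, q₀, hpq₀, h₁⟩ := hs _ ⟨a, b, hab, rfl⟩
  obtain ⟨u, v, -, h₂⟩ := hs _ ⟨a, c, hac, rfl⟩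
  have h12 := hψne (hne hab hac hbc)
  rw [h₁, h₂] at h12
  obtain ⟨r, hr1, hr2, hr⟩ := exists_shared h12
  obtain ⟨p, q, hpq, hrp, hrq, h₁, h₂⟩ : ∃ p q, p ≠ q ∧ r ≠ p ∧ r ≠ q ∧ ψ (swap a b) = swap p q ∧ ψ (swap a c) = swap p r := by
    rcases hr with e | e
    · exact ⟨p₀, q₀, hpq₀, hr1, hr2, h₁, h₂.trans e⟩
    · exact ⟨q₀, p₀, hpq₀.symm, hr2, hr1, h₁.trans (swap_comm _ _), h₂.trans e⟩
  have hqr : ψ (swap b c) = swap q r := by
    rw [show swap b c = swap a b * swap a c * swap a b from ?_, map_mul, map_mul, h₁, h₂]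
    · have e := Equiv.swap_apply_apply (swap p q) p r
      rw [swap_apply_left, swap_apply_of_ne_of_ne hrp hrq, swap_inv] at e
      exact e.symm
    · have e := Equiv.swap_apply_apply (swap a b) a c
      rwa [swap_apply_left, swap_apply_of_ne_of_ne hac.symm hbc.symm, swap_inv] at e
  have hex : ∀ d, d ≠ a → ∃ s, s ≠ p ∧ ψ (swap a d) = swap p s := by
    intro d hd
    rcases eq_or_ne d b with rfl | hdb
    · exact ⟨q, hpq.symm, h₁⟩
    rcases eq_or_ne d c with rfl | hdc
    · exact ⟨r, hrp, h₂⟩
    obtain ⟨x, y, -, hxy⟩ := hs _ ⟨a, d, hd.symm, rfl⟩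
    have e1 := hψne (hne hab hd.symm hdb.symm)
    have e2 := hψne (hne hac hd.symm hdc.symm)
    rw [h₁, hxy] at e1
    rw [h₂, hxy] at e2
    obtain ⟨s, hs1, hs2, hs⟩ := exists_shared e1
    rcases hs with hs | hs
    · exact ⟨s, hs1, hxy.trans hs⟩
    obtain ⟨t, ht1, ht2, ht⟩ := exists_shared e2
    rcases ht with ht | ht
    · exact ⟨t, ht1, hxy.trans ht⟩
    exfalso
    have hsr : s = r := by
      have := congrArg (fun g : Perm α => g q) (hs.symm.trans ht)
      simp only [swap_apply_left] at this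
      rcases eq_or_ne q t with rfl | hqt
      · rwa [swap_apply_right] at this
      · rw [swap_apply_of_ne_of_ne hrq.symm hqt] at this
        exact absurd this hs2
    have hdd : swap b c = swap a d := ψ.injective (by rw [hqr, hxy, hs, hsr])
    have := congrArg (fun g : Perm α => g a) hdd
    simp only [swap_apply_left, swap_apply_of_ne_of_ne hab hac] at this
    exact hd this.symm
  choose f hfp hf using hex
  let σ₀ : α → α := fun x => if h : x = a then p else f x h
  have hσ : Function.Injective σ₀ := by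
    intro x y h
    by_cases hx : x = a <;> by_cases hy : y = a
    · rw [hx, hy]
    · simp only [σ₀, dif_pos hx, dif_neg hy] at h; exact absurd h.symm (hfp y hy)
    · simp only [σ₀, dif_pos hy, dif_neg hx] at h; exact absurd h (hfp x hx)
    · simp only [σ₀, dif_neg hx, dif_neg hy] at h
      have : swap a x = swap a y := ψ.injective (by rw [hf x hx, hf y hy, h])
      simpa using congrArg (fun g : Perm α => g a) this
  let σ : Perm α := Equiv.ofBijective σ₀ (Finite.injective_iff_bijective.1 hσ)
  have hσ' : ∀ x, σ x = σ₀ x := fun _ => rfl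
  have key : ∀ x, x ≠ a → ψ (swap a x) = σ * swap a x * σ⁻¹ := fun x hx => by
    rw [hf x hx, ← Equiv.swap_apply_apply, hσ', hσ']
    simp only [σ₀, dif_pos, dif_neg hx]
  refine ⟨σ, fun g => ?_⟩
  have : (ψ : Perm α →* Perm α) = (MulAut.conj σ).toMonoidHom := by
    refine MonoidHom.eq_of_eqOn_dense Perm.closure_isSwap ?_
    rintro s ⟨x, y, hxy, rfl⟩
    show ψ (swap x y) = σ * swap x y * σ⁻¹
    by_cases hx : x = a
    · subst hx; exact key y hxy.symm
    by_cases hy : y = a
    · subst hy; rw [swap_comm]; exact key x hx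
    have e : swap x y = swap a x * swap a y * swap a x := by
      have e := Equiv.swap_apply_apply (swap a x) a y
      rwa [swap_apply_left, swap_apply_of_ne_of_ne hy hxy.symm, swap_inv] at e
    rw [e, map_mul, map_mul, key x hx, key y hy]
    group
  exact DFunLike.congr_fun this g

/-- away from degree six every automorphism of the symmetric group is inner -/
theorem exists_conj (h6 : Fintype.card α ≠ 6) (ψ : Perm α ≃* Perm α) : ∃ σ : Perm α, ∀ g, ψ g = σ * g * σ⁻¹ :=
  exists_conj_of_swap ψ fun _ hg => isSwap_map h6 ψ hg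

theorem normalCore_eq_bot (h5 : 5 ≤ Fintype.card α) (H : Subgroup (Perm α)) (hH : 2 < H.index) : H.normalCore = ⊥ := by
  by_contra h
  have := Perm.alternatingGroup_le_of_normal (by rwa [Nat.card_eq_fintype_card]) ((Subgroup.nontrivial_iff_ne_bot _).2 h)
  have hle := Subgroup.index_antitone (this.trans H.normalCore_le)
  have hA : (alternatingGroup α).index = 2 := by
    have : Nontrivial α := Fintype.one_lt_card_iff_nontrivial.1 (by omega)
    exact alternatingGroup.index_eq_two
  omega

theorem le_index (h4 : Fintype.card α ≠ 4) (H : Subgroup (Perm α)) (hH : H ≠ ⊤) (hA : H ≠ alternatingGroup α) :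
    Fintype.card α ≤ H.index := by
  by_contra! hlt
  have h1 : H.index ≠ 1 := fun h => hH (Subgroup.index_eq_one.1 h)
  have h0 : H.index ≠ 0 := Subgroup.index_ne_zero_of_finite
  have h2 : H.index ≠ 2 := fun h => hA (Perm.eq_alternatingGroup_of_index_eq_two h)
  have hcore := normalCore_eq_bot (by omega) H (by omega)
  rw [normalCore_eq_ker, MonoidHom.ker_eq_bot_iff] at hcore
  have := Nat.card_le_card_of_injective _ hcore
  rw [Nat.card_perm, Nat.card_perm, Nat.card_eq_fintype_card (α := α)] at this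
  change _ ≤ H.index ! at this
  exact absurd this (not_le.2 (Nat.factorial_lt_of_lt (by omega) hlt))

theorem eq_stabilizer_of_le {H : Subgroup (Perm α)} (hH : H.index = Fintype.card α) {x : α}
    (h : H ≤ stabilizer (Perm α) x) : H = stabilizer (Perm α) x := by
  have hx : (stabilizer (Perm α) x).index = Fintype.card α := by
    rw [index_stabilizer_of_transitive, Nat.card_eq_fintype_card]
  refine h.eq_of_not_lt fun hlt => ?_
  have := Subgroup.index_strictAnti hlt
  omega

theorem exists_stabilizer (h6 : Fintype.card α ≠ 6) (H : Subgroup (Perm α)) (hH : H.index = Fintype.card α) :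
    ∃ x : α, H = stabilizer (Perm α) x := by
  have h0 : H.index ≠ 0 := Subgroup.index_ne_zero_of_finite
  have hne : Nonempty α := Fintype.card_pos_iff.1 (by omega)
  have hc : Nat.card H * H.index = (Fintype.card α)! := by
    rw [Subgroup.card_mul_index, Nat.card_perm, Nat.card_eq_fintype_card]
  rcases Nat.lt_or_ge (Fintype.card α) 5 with hlt | h5
  · obtain ⟨x, hx⟩ : ∃ x, ∀ h ∈ H, h x = x := by
      obtain ⟨a⟩ := hne
      obtain hn | hn | hn : Fintype.card α ≤ 2 ∨ Fintype.card α = 3 ∨ Fintype.card α = 4 := by omega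
      · have h1 : Nat.card H = 1 := by
          rw [hH] at hc
          rcases Nat.lt_or_ge (Fintype.card α) 2 with h | h
          · rw [show Fintype.card α = 1 by omega] at hc; simpa using hc
          · rw [show Fintype.card α = 2 by omega] at hc
            have : (2 : ℕ)! = 2 := rfl
            omega
        exact ⟨a, fun h hh => by rw [Subgroup.card_eq_one.1 h1, Subgroup.mem_bot] at hh; rw [hh]; rfl⟩
      · rw [hH, hn, show (3 : ℕ)! = 6 from rfl] at hc
        have h2 : Nat.card H = 2 := by omega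
        obtain ⟨⟨g, hg⟩, hgo⟩ := exists_prime_orderOf_dvd_card' (G := H) 2 (by rw [h2])
        have hgo' : orderOf g = 2 := by rw [← orderOf_mk g hg] at *; exact hgo
        obtain ⟨x, hx⟩ : ∃ x, g x = x := by
          obtain ⟨x, y, -, rfl⟩ : g.IsSwap := by
            obtain ⟨k, hk⟩ := Perm.cycleType_prime_order (hgo'.symm ▸ Nat.prime_two)
            rw [hgo'] at hk
            have hs := g.sum_cycleType
            rw [hk, Multiset.sum_replicate, smul_eq_mul] at hs
            have := Finset.card_le_univ g.support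
            rw [Perm.isSwap_iff_cycleType, hk, show k = 0 by omega]; rfl
          obtain ⟨z, -, hz⟩ := Finset.exists_mem_notMem_of_card_lt_card (s := ({x, y} : Finset α)) (t := Finset.univ)
            ((Finset.card_le_two).trans_lt (by rw [Finset.card_univ, hn]; omega))
          simp only [Finset.mem_insert, Finset.mem_singleton, not_or] at hz
          exact ⟨z, swap_apply_of_ne_of_ne hz.1 hz.2⟩
        refine ⟨x, fun h hh => ?_⟩
        have hz : Subgroup.zpowers g = H := Subgroup.eq_of_le_of_card_ge (by rwa [Subgroup.zpowers_le])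
          (by rw [Nat.card_zpowers, hgo', h2])
        rw [← hz] at hh
        exact (Subgroup.zpowers_le.2 (mem_stabilizer_iff.2 hx) : _ ≤ stabilizer (Perm α) x) hh
      · rw [hH, hn, show (4 : ℕ)! = 24 from rfl] at hc
        have h2 : Nat.card H = 6 := by omega
        obtain ⟨g, hgo⟩ := exists_prime_orderOf_dvd_card' (G := H) 3 (by rw [h2]; norm_num)
        have hgo' : orderOf (g : Perm α) = 3 := by rw [Subgroup.orderOf_coe, hgo]
        have : (Subgroup.zpowers g).Normal := normal_of_index_eq_two (by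
          have := Subgroup.card_mul_index (Subgroup.zpowers g)
          rw [Nat.card_zpowers, hgo, h2] at this; omega)
        have h3 : (g : Perm α).support.card = 3 := by
          obtain ⟨k, hk⟩ := Perm.cycleType_prime_order (σ := (g : Perm α)) (hgo'.symm ▸ Nat.prime_three)
          rw [hgo'] at hk
          have := (g : Perm α).sum_cycleType
          rw [hk, Multiset.sum_replicate, smul_eq_mul] at this
          have := Finset.card_le_univ (g : Perm α).support
          omega
        obtain ⟨x, hx⟩ : ∃ x, (g : Perm α).supportᶜ = {x} := Finset.card_eq_one.1 (by rw [Finset.card_compl, hn, h3])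
        have hxf : ∀ y, (g : Perm α) y = y ↔ y = x := fun y => by
          rw [← Perm.notMem_support, ← Finset.mem_compl, hx, Finset.mem_singleton]
        refine ⟨x, fun h hh => (hxf _).1 ?_⟩
        obtain ⟨j, hj⟩ := Subgroup.mem_zpowers_iff.1
          (‹(Subgroup.zpowers g).Normal›.conj_mem g (Subgroup.mem_zpowers g) (⟨h, hh⟩ : H)⁻¹)
        have e : h⁻¹ * (g : Perm α) * h = (g : Perm α) ^ j := by
          simpa using (congrArg Subtype.val hj).symm
        have hfix : ((g : Perm α) ^ j) x = x := Perm.zpow_apply_eq_self_of_apply_eq_self ((hxf x).2 rfl) j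
        rw [← e, Perm.mul_apply, Perm.mul_apply, Perm.inv_eq_iff_eq] at hfix
        exact hfix
    exact ⟨x, eq_stabilizer_of_le hH fun h hh => hx h hh⟩
  · have hinj := normalCore_eq_bot h5 H (by omega)
    rw [normalCore_eq_ker, MonoidHom.ker_eq_bot_iff] at hinj
    have hcard : Nat.card (Perm α ⧸ H) = Nat.card α := by rw [Nat.card_eq_fintype_card (α := α)]; exact hH
    obtain ⟨e⟩ : Nonempty ((Perm α ⧸ H) ≃ α) := ⟨(Finite.equivFinOfCardEq hcard).trans (Finite.equivFin α).symm⟩
    let ρ : Perm α →* Perm α := e.permCongrHom.toMonoidHom.comp (MulAction.toPermHom (Perm α) (Perm α ⧸ H))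
    have hρ : Function.Injective ρ := e.permCongrHom.injective.comp hinj
    obtain ⟨σ, hσ⟩ := exists_conj h6 (MulEquiv.ofBijective ρ (Finite.injective_iff_bijective.1 hρ))
    refine ⟨σ⁻¹ (e (QuotientGroup.mk 1)), eq_stabilizer_of_le hH fun h hh => ?_⟩
    have h1 : ρ h (e (QuotientGroup.mk 1)) = e (QuotientGroup.mk 1) := by
      simp only [ρ, MonoidHom.comp_apply, MulEquiv.coe_toMonoidHom]
      show e ((MulAction.toPermHom (Perm α) (Perm α ⧸ H) h) (e.symm (e (QuotientGroup.mk 1)))) = _
      rw [Equiv.symm_apply_apply, MulAction.toPermHom_apply, MulAction.toPerm_apply, MulAction.Quotient.smul_mk, smul_eq_mul, mul_one]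
      congr 1
      exact QuotientGroup.eq.2 (by simpa using inv_mem hh)
    have h2 : ρ h = σ * h * σ⁻¹ := hσ h
    rw [h2, Perm.mul_apply, Perm.mul_apply, ← Perm.eq_inv_iff_eq] at h1
    exact h1

end Cfsg.Agent.PermGroups.Sym
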